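import Cfsg.Agent.AS.Loc
import Cfsg.Agent.He5.QA0

/-! A subgroup `2 ^ (1 + 6) : L₃(2)`. -/

set_option autoImplicit false
set_option synthInstance.maxSize 20000
set_option synthInstance.maxHeartbeats 200000

namespace Cfsg.Agent.AS

open Subgroup
open Cfsg.Agent.Comp.BN (ev ev_cons ev_nil ev_mem Sat)

variable {G : Type*} [Group G] {ψ : C →* G} {A D : Subgroup G} {h n1 n2 g ζ s1 s2 : G}

local notation "𝐊" => centralizer (A : Set G)
local notation "𝐌" => normalizer (A : Set G)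
local notation "𝐍" => normalizer (MonoidHom.range ψ : Set G)
local notation "𝐂" => centralizer (D : Set G)

/-- codes for the Sylow subgroup -/
abbrev P := C × Bool × Bool

/-- the element with a code -/
noncomputable def sg (ψ : C →* G) (s1 s2 : G) (p : P) : G := ψ p.1 * (cond p.2.1 s1 1 * cond p.2.2 s2 1)

noncomputable def TE (p : P) (x : C) : C := T (cond p.2.1 (cond p.2.2 30 36) (cond p.2.2 66 0)) x

noncomputable def mp (p q : P) : P := (p.1 * TE p q.1, xor p.2.1 q.2.1, xor p.2.2 q.2.2)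

def o : P := (1, false, false)

noncomputable def TH (p : P) : P := (T 8 p.1, p.2.2, p.2.1)

theorem sg_ff (x : C) : sg ψ s1 s2 (x, false, false) = ψ x := by simp [sg]

theorem sg_o : sg ψ s1 s2 o = 1 := by simp [sg, o]

noncomputable def MB : C → C := lin (c 1) (c 2) (c 225) (c 114) (c 177) (c 210)

def bp (p : P) : P := (c (Nat.land p.1.v 12), p.2)

noncomputable def vp (p : P) : C := p.1 * (bp p).1⁻¹

noncomputable def tp (p : P) (x : C) : C := (bp p).1 * TE p x * (bp p).1⁻¹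

abbrev cj4 (p q : P) : Prop := mp (bp p) (bp p) = o ∧ mp (bp q) (bp q) = o ∧
  c 2 * MB (vp p * tp p (c 2)) = vp q ∧ ∀ x, V1 x → MB (tp p (MB x)) = tp q x

abbrev cu (p : P) : Prop := mp (bp p) (bp p) = o ∧
  c 2 * MB (vp p) * MB (tp p (c 2 * MB (vp p))) * MB (tp p (MB (tp p (c 2 * MB (vp p))))) = 1 ∧
  ∀ x, V1 x → MB (tp p (MB (tp p (MB (tp p x))))) = x

/-- the ten letters -/
def L (k : ℕ) : P := [(c 69, true, false), (c 140, false, false), (c 195, false, false), (c 21, false, true),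
  (c 68, false, false), (c 96, false, false), (c 65, false, false), (c 240, false, false), (c 176, false, false),
  (c 80, false, false)].getD k o

noncomputable def evP (w : List ℕ) : P := List.rec (motive := fun _ => P) o (fun k _ ih => mp (L k) ih) w

theorem cj3 {x y : G} (hx : x * x = 1) (hy : y * y = 1) (e : (x * y) ^ 3 = 1) : x * y * x * (x * y)⁻¹ = y := by
  rw [mul_inv_rev, He5.inv_self hx, He5.inv_self hy, ← He5.inv_self hy, ← mul_eq_one_iff_eq_inv, ← e,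
    He5.inv_self hy]
  simp [pow_succ, mul_assoc]

theorem swap3 {x y : G} (e : (x * y) ^ 3 = 1) : (y * x) ^ 3 = 1 := by
  rw [show y * x = y * (x * y) * y⁻¹ by group, conj_pow, e]; simp

/-- The full configuration. -/
structure Cf3 (A : Subgroup G) (ψ : C →* G) (h n1 n2 : G) (D : Subgroup G) (g ζ s1 s2 : G) : Prop
    extends Cf2 A ψ h n1 n2 D g ζ where
  w1 : Sw ψ h D ζ s1
  w2 : Sw (ψ.comp θ) h D (ζ * ζ) s2

namespace Cf3

open Cfg Cf2

variable (H : Cf3 A ψ h n1 n2 D g ζ s1 s2)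
include H

theorem dual : Cf3 A (ψ.comp θ) h n2 n1 D g (ζ * ζ) s2 s1 where
  toCf2 := H.toCf2.dual
  w1 := H.w2
  w2 := by
    rw [show (ψ.comp θ).comp θ = ψ from MonoidHom.ext fun x => congrArg ψ (θ_θ x),
      show ζ * ζ * (ζ * ζ) = ζ ^ 3 * ζ by simp [pow_succ, mul_assoc], H.z3, one_mul]
    exact H.w1

theorem s2act : Act ψ s2 (T 66) := H.w2.act.dual' (by decide +kernel)

theorem s1z : Commute s1 (h * h * (ζ * ζ)) := comm_of_cj (by
  have : s1 * ζ * s1⁻¹ = h := by rw [← H.w1.h, ← cj_mul, H.w1.sq]; simp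
  rw [← conj_mul, ← conj_mul, ← conj_mul, H.w1.h, this]
  exact ((H.hz.mul_right H.hz).mul_left (H.hz.mul_right H.hz)).eq.symm)

theorem z1cube : (h * h * (ζ * ζ)) ^ 3 = 1 := by
  rw [((H.hz.mul_right H.hz).mul_left (H.hz.mul_right H.hz)).mul_pow, (Commute.refl h).mul_pow,
    (Commute.refl ζ).mul_pow, H.h3, H.z3]; simp

theorem s2z : s2 * (h * h * (ζ * ζ)) * s2⁻¹ = (h * h * (ζ * ζ))⁻¹ := by
  have : s2 * (ζ * ζ) * s2⁻¹ = h := by rw [← H.w2.h, ← cj_mul, H.w2.sq]; simp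
  rw [← conj_mul, ← conj_mul, H.w2.h, this, eq_inv_iff_mul_eq_one,
    show ζ * ζ * (ζ * ζ) * h * (h * h * (ζ * ζ)) = ζ ^ 3 * ζ * h ^ 3 * ζ * ζ by simp [pow_succ, mul_assoc],
    H.h3, H.z3, one_mul, mul_one, ← pow_three', H.z3]

theorem s12 : Commute s1 s2 := by
  have h1 : s2⁻¹ * (s1 * s2 * s1⁻¹) ∈ D := H.K0 (H.s2act.same (((H.w1.act.mul H.s2act).mul
    (H.w1.act.inv (τ := T 36) (by decide +kernel))).congr (by decide +kernel))) (comm_of_cj (by
      rw [cj_mul, cj_mul, cj_mul, cj_of_comm H.s1z.inv_left, H.s2z, cj_of_comm H.s1z.inv_right, ← H.s2z]; group))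
  have h2 := H.odd _ h1 (by
    rw [← mul_assoc, (comC h1 (inv_mem H.w2.cd)).eq, ← mul_assoc s2⁻¹, ← mul_inv_rev, H.w2.sq,
      inv_one, one_mul, conj_mul, H.w2.sq]; simp)
  exact comm_of_cj (inv_mul_eq_one.1 h2).symm

theorem te_act (p : P) : Act ψ (cond p.2.1 s1 1 * cond p.2.2 s2 1) (TE p) := by
  obtain ⟨x, _ | _, _ | _⟩ := p
  · exact fun y => by simp [TE, T_zero]
  · exact fun y => by simpa [TE] using H.s2act y
  · exact fun y => by simpa [TE] using H.w1.act y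
  · exact (H.w1.act.mul H.s2act).congr (τ := T 30) (by decide +kernel)

theorem sg_mp (p q : P) : sg ψ s1 s2 (mp p q) = sg ψ s1 s2 p * sg ψ s1 s2 q := by
  have a1 := H.w1.sq
  have a2 := H.w2.sq
  have a3 : ∀ x, s2 * (s1 * x) = s1 * (s2 * x) := fun x => by rw [← mul_assoc, ← H.s12.eq, mul_assoc]
  have a4 : ∀ x, s1 * (s1 * x) = x := fun x => by rw [← mul_assoc, a1, one_mul]
  rw [sg, mp, map_mul, ← H.te_act, sg, sg]
  obtain ⟨x, _ | _, _ | _⟩ := p <;> obtain ⟨y, _ | _, _ | _⟩ := q <;>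
    simp [mul_assoc, a1, a2, a3, a4, ← H.s12.eq, He5.inv_self a1, He5.inv_self a2]

theorem sg_act (p : P) : Act ψ (sg ψ s1 s2 p) fun x => p.1 * TE p x * p.1⁻¹ := (act_inn _).mul (H.te_act p)

theorem sg_C (p : P) : sg ψ s1 s2 p ∈ 𝐂 :=
  mul_mem (H.AC (H.mem _)) (mul_mem (by cases p.2.1; exacts [one_mem _, H.w1.cd])
    (by cases p.2.2; exacts [one_mem _, H.w2.cd]))

theorem sg_TH (p : P) : sg (ψ.comp θ) s2 s1 (TH p) = sg ψ s1 s2 p := by
  obtain ⟨x, _ | _, _ | _⟩ := p <;> simp [sg, TH, H.s12.eq, show θ (T 8 x) = x from θ_θ x]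

theorem ev_L (w : List ℕ) : ev (fun k => sg ψ s1 s2 (L k)) w = sg ψ s1 s2 (evP w) := by
  induction w with
  | nil => exact sg_o.symm
  | cons k w ih => rw [ev_cons, ih, ← H.sg_mp]; rfl

theorem K1 {b : G} (h1 : b ∈ 𝐂 ⊓ normalizer (zpowers (h * h * (ζ * ζ)) : Set G))
    (h2 : ∀ y, V1 y → Commute b (ψ y)) : b ∈ D := by
  obtain ⟨v, hv, hd⟩ := H.CV h2
  have a1 := (mem_normalizer_iff.1 h1.2 _).1 (mem_zpowers _)
  rw [← mul_inv_cancel_left (ψ v) b, cj_mul, cj_of_comm (comC hd H.z1C)] at a1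
  obtain ⟨n, hn⟩ := mul_mem a1 (inv_mem (mem_zpowers _))
  have chk : ∀ v, V1 v → v * T 2 v⁻¹ * (v * T 2 v⁻¹) * (v * T 2 v⁻¹) = 1 → v = 1 := by decide +kernel
  rw [chk v hv (H.inj (by
    rw [← pow_three', map_pow, map_mul, ← H.z1act, map_inv, ← mul_assoc, ← mul_assoc, ← hn, map_one]
    beta_reduce
    rw [← zpow_natCast, ← zpow_mul, mul_comm, zpow_mul, zpow_natCast, H.z1cube, one_zpow]))] at hd
  simpa using hd

theorem exists_m [Finite G] : ∃ m ∈ 𝐂, m * m = 1 ∧ (∀ p q, cj4 p q → m * sg ψ s1 s2 p * m = sg ψ s1 s2 q) ∧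
    ∀ p, cu p → (m * sg ψ s1 s2 p) ^ 3 = 1 := by
  have K1 := @H.K1
  have a1 := H.s2z
  have a2 := H.s1z
  have a3 := H.z1act
  have a0 := H.z1C
  obtain ⟨v, a4, d, hd, a5⟩ := H.K2 H.n1act (by decide +kernel)
  have a6 : h * h * (ζ * ζ) ∈ 𝐌 := mul_mem (mul_mem (AM H.hA) (AM H.hA)) (mul_mem H.zM H.zM)
  have a7 := mul_mem H.n1A (H.mem v)
  generalize n1 * ψ v = n at a4 a5 a7
  generalize h * h * (ζ * ζ) = ξ at K1 a0 a1 a2 a3 a5 a6
  rw [H.DA hd (Or.inl (by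
    convert mul_mem (inv_mem a7) (cjA' a6 a7) using 1; rw [mul_assoc ξ⁻¹, a5]; group)), mul_one] at a5
  have mB : ∀ {b : G}, b ∈ 𝐂 → b * ξ * b⁻¹ ∈ zpowers ξ → b ∈ 𝐂 ⊓ normalizer (zpowers ξ : Set G) :=
    fun {b} h1 h2 => ⟨h1, mem_normalizer_fintype (by
      rintro _ ⟨k, rfl⟩; rw [← conj_zpow]; exact zpow_mem h2 k)⟩
  have mB' : ∀ {b : G}, b ∈ 𝐂 → Commute b ξ → b ∈ 𝐂 ⊓ normalizer (zpowers ξ : Set G) :=
    fun {b} h1 h2 => mB h1 (by rw [cj_of_comm h2]; exact mem_zpowers ξ)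
  have y4 := mB' (H.AC (H.mem (c 4))) (a3.comm (by decide +kernel)).symm
  have y8 := mB' (H.AC (H.mem (c 8))) (a3.comm (by decide +kernel)).symm
  have b1 := mB' H.w1.cd a2
  have b2 := mB' (H.AC a7) a5
  have b3 := mul_mem b1 (mul_mem y8 (mul_mem b2 (mul_mem b1 (mul_mem y4 (mul_mem b2 y8)))))
  have c1 := H.w1.act.toV (by decide +kernel)
  have c4 := (act_inn (ψ := ψ) (c 4)).toV (by decide +kernel)
  have c8 := (act_inn (ψ := ψ) (c 8)).toV (by decide +kernel)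
  have b4 := (c1.mul (c8.mul (a4.mul (c1.mul (c4.mul (a4.mul c8)))))).congr (τ := MB) (by decide +kernel)
  generalize s1 * (ψ (c 8) * (n * (s1 * (ψ (c 4) * (n * ψ (c 8)))))) = b at b3 b4
  have idV : ∀ {a : G} {σ : C → C}, ActV ψ a σ → (∀ x, V1 x → σ x = x) → ∀ y, V1 y → Commute a (ψ y) :=
    fun {a σ} e e' y hy => comm_of_cj (by rw [(e y hy).2, e' y hy])
  obtain ⟨d', hd', b0, b5⟩ := H.K3 b3.1 (K1 (mul_mem b3 b3) (idV (b4.mul b4) (by decide +kernel)))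
  have b6 := mul_mem b3 (mB' ((mul_mem_cancel_left (H := 𝐂) b3.1).1 b0) (comC hd' a0))
  have b7 : ActV ψ (b * d') MB := fun x hx =>
    ⟨(b4 x hx).1, by rw [cj_mul, cj_of_comm (H.comD hd' x), (b4 x hx).2]⟩
  clear b0
  generalize b * d' = m at b5 b6 b7
  have i5 := He5.inv_self b5
  have chk : ∀ x : C, T 2 (c (Nat.land x.v 12)) = c (Nat.land x.v 12) ∧ ∀ e f : Bool, V1 (vp (x, e, f)) ∧
    ∀ y, V1 y → V1 (tp (x, e, f) y) := by decide +kernel
  have hβ : ∀ p, sg ψ s1 s2 (bp p) ∈ 𝐂 ⊓ normalizer (zpowers ξ : Set G) ∧ ActV ψ (sg ψ s1 s2 (bp p)) (tp p) ∧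
      V1 (vp p) ∧ sg ψ s1 s2 p = ψ (vp p) * sg ψ s1 s2 (bp p) := fun p =>
    ⟨mul_mem (mB' (H.AC (H.mem _)) (a3.comm (chk p.1).1).symm) (mul_mem
      (by change cond p.2.1 _ _ ∈ _; cases p.2.1; exacts [one_mem _, b1])
      (by change cond p.2.2 _ _ ∈ _; cases p.2.2
          exacts [one_mem _, mB H.w2.cd (a1 ▸ inv_mem (mem_zpowers ξ))])),
      (H.sg_act (bp p)).toV ((chk p.1).2 p.2.1 p.2.2).2, ((chk p.1).2 p.2.1 p.2.2).1,
      by simp [sg, vp, bp]⟩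
  have sq : ∀ {p}, mp p p = o → sg ψ s1 s2 p * sg ψ s1 s2 p = 1 := fun e => by rw [← H.sg_mp, e, sg_o]
  refine ⟨ψ (c 2) * m, mul_mem (H.AC (H.mem _)) b6.1, ?_, fun p q ⟨e1, e2, e3, e4⟩ => ?_,
    fun p ⟨e1, e2, e3⟩ => ?_⟩
  · calc _ = ψ (c 2) * (m * ψ (c 2) * m⁻¹) * (m * m) := by group
      _ = 1 := by
        rw [(b7 _ (by decide)).2, ← map_mul, b5, show c 2 * MB (c 2) = 1 by decide +kernel]; simp
  · obtain ⟨p1, p2, p3, p4⟩ := hβ p
    obtain ⟨q1, q2, -, q4⟩ := hβ q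
    have f1 := K1 (mul_mem (inv_mem q1) (mul_mem (mul_mem b6 p1) b6))
      (q2.same (((b7.mul p2).mul b7).congr e4))
    have f2 := H.odd _ f1 (by
      rw [← mul_assoc, (comC f1 (inv_mem q1.1)).eq, ← mul_assoc _⁻¹, ← mul_inv_rev, sq e2, inv_one, one_mul]
      nth_rw 2 4 [← i5]
      rw [conj_mul, sq e1]; simp)
    have chk' : ∀ x, V1 x → ∀ y, V1 y → V1 (x * y) := by decide +kernel
    rw [q4, inv_mul_eq_one.1 f2, ← e3, map_mul, ← (b7 _ (chk' _ p3 _ (p2 _ (by decide)).1)).2, map_mul,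
      ← (p2 _ (by decide)).2, p4]
    group
  · obtain ⟨p1, p2, p3, p4⟩ := hβ p
    have f0 := b7.mul p2
    have f1 := K1 (mul_mem (mul_mem (mul_mem b6 p1) (mul_mem b6 p1)) (mul_mem b6 p1))
      (idV ((f0.mul f0).mul f0) e3)
    rw [← pow_three'] at f1
    have f2 := H.odd _ f1 (by
      nth_rw 1 [← cj_of_comm (comC f1 b6.1).symm]
      rw [← conj_pow, ← mul_assoc m m, b5, one_mul, ← He5.inv_self (sq e1), ← mul_inv_rev,
        He5.inv_self (sq e1), inv_pow, inv_mul_cancel])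
    have chk' : ∀ x, V1 x → V1 (c 2 * MB x) := by decide +kernel
    have f3 := chk' _ p3
    have f4 : ψ (c 2) * m * sg ψ s1 s2 p = ψ (c 2 * MB (vp p)) * (m * sg ψ s1 s2 (bp p)) := by
      rw [p4, map_mul, ← (b7 _ p3).2]; group
    have f5 := congrArg ψ e2
    rw [map_mul, map_mul, ← (f0 _ (f0 _ f3).1).2, ← (f0 _ f3).2] at f5
    rw [f4]
    refine Eq.trans ?_ ((congrArg₂ (· * ·) f5 f2).trans (by simp))
    simp [pow_succ, mul_assoc]

theorem CQ {a : G} (ha : ∀ k ∈ [0, 3, 4, 6, 7, 8, 9], Commute a (sg ψ s1 s2 (L k))) :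
    ∃ w, (w = 1 ∨ w = c 80) ∧ (ψ w)⁻¹ * a ∈ D := by
  have a1 : ∀ x ∈ [68, 65, 240, 176, 80], Commute a (ψ (c x)) := by
    simp only [L, List.forall_mem_cons, List.getD_cons_succ, List.getD_cons_zero, sg_ff, List.not_mem_nil,
      false_imp_iff, implies_true] at ha ⊢
    exact ha.2.2
  have a2 := H.teC (r := c 240 * c 176) (by decide +kernel) (by decide +kernel)
    (map_mul ψ _ _ ▸ (a1 240 (by decide)).mul_right (a1 176 (by decide)))
  obtain ⟨u, j, hj, a3, a4⟩ := H.fb a a2 (H.N_of' a2 (w := c 80) (by decide) (by decide) (by decide)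
    (cj_of_comm (a1 80 (by decide))))
  have chk : ∀ u, ∀ j < 36, (∀ x ∈ [68, 65, 240, 176, 80], u * T j (c x) * u⁻¹ = c x) → j = 0 ∧ W u := by
    decide +kernel
  obtain ⟨a5, a6⟩ := chk u j hj fun x hx => H.inj ((a3.of_inv _).symm.trans (cj_of_comm (a1 x hx)))
  obtain ⟨x, hx, e⟩ := H.KD _ (a4 a5)
  rw [← mul_assoc, ← mul_inv_rev, ← map_mul] at e
  have a7 := W_mul u a6 x (R_W hx)
  refine ⟨_, ?_, e⟩
  have a8 : ∀ k ∈ [0, 3], (L k).1 * TE (L k) (u * x) * (L k).1⁻¹ = u * x := fun k hk => H.inj (by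
    rw [← H.sg_act, cj_of_comm]
    simpa using ((ha k (by revert k; decide)).mul_left (comC e (H.sg_C _)).inv_left).symm)
  revert a7 a8
  generalize u * x = w
  revert w
  decide +kernel

theorem exists_sat [Finite G] : ∃ y : ℕ → G, Sat He5.Id.PH y ∧ (∀ k < 10, y k = sg ψ s1 s2 (L k)) ∧
    ∀ k, y k ∈ 𝐂 := by
  obtain ⟨m, m1, m2, m3, m4⟩ := H.exists_m
  obtain ⟨n, n1, n2, n3, n4⟩ := H.dual.exists_m
  replace n3 := fun p q e => by simpa only [H.sg_TH] using n3 (TH p) (TH q) e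
  replace n4 := fun p e => by simpa only [H.sg_TH] using n4 (TH p) e
  have sq : ∀ k, sg ψ s1 s2 (L k) * sg ψ s1 s2 (L k) = 1 := fun k => by
    have chk : ∀ k < 10, mp (L k) (L k) = o := by decide +kernel
    by_cases hk : k < 10
    · rw [← H.sg_mp, chk k hk, sg_o]
    · rw [L, List.getD_eq_default _ _ (not_lt.1 hk), sg_o, one_mul]
  have a1 : (m * n) ^ 3 = 1 := by
    have chk : ∀ k ∈ [0, 3, 4, 6, 7, 8, 9], ∃ i ∈ [0, 3, 4, 6, 7, 8, 9], cj4 (TH (L k)) (TH (L i)) ∧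
      cj4 (L i) (L ([4, 0, 0, 8, 7, 0, 3, 0, 6, 9].getD k 0)) := by decide +kernel
    have b1 : ∀ k ∈ [0, 3, 4, 6, 7, 8, 9], m * n * sg ψ s1 s2 (L k) * (m * n)⁻¹ =
        sg ψ s1 s2 (L ([4, 0, 0, 8, 7, 0, 3, 0, 6, 9].getD k 0)) := fun k hk => by
      obtain ⟨i, -, e1, e2⟩ := chk k hk
      rw [cj_mul, He5.inv_self n2, He5.inv_self m2, n3 _ _ e1, m3 _ _ e2]
    obtain ⟨w, hw, e⟩ := H.CQ (a := (m * n) ^ 3) fun k hk => comm_of_cj (by
      rw [pow_three', cj_mul, cj_mul, b1 k hk, b1 _ (by revert k; decide), b1 _ (by revert k; decide)]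
      congr 2; revert k; decide)
    have mz : Commute m (ψ (c 80)) := comm_of_cj (by
      simpa [L, sg_ff, He5.inv_self m2] using m3 (L 9) (L 9) (by decide +kernel))
    have nz : Commute n (ψ (c 80)) := comm_of_cj (by
      simpa [L, sg_ff, He5.inv_self n2] using n3 (L 9) (L 9) (by decide +kernel))
    have b2 : Commute m ((m * n) ^ 3) := by
      simpa using (show Commute m (ψ w) by rcases hw with rfl | rfl; exacts [by simp, mz]).mul_right
        (comC e m1).symm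
    have b3 := H.inU e (n := 1) (by
      rw [pow_one, pow_two]
      nth_rw 1 [← cj_of_comm b2]
      rw [← conj_pow, ← mul_assoc m m, m2, one_mul, ← He5.inv_self n2, ← mul_inv_rev, He5.inv_self n2,
        inv_pow, inv_mul_cancel])
    rcases hw with rfl | rfl
    · rw [b3, map_one]
    exfalso
    have z2 := sqW (ψ := ψ) (x := c 80) (by decide)
    have c0 : IsA ψ (sg ψ s1 s2 (L 5) * ψ (c 80)) := by
      rw [show L 5 = (c 96, false, false) from rfl, sg_ff, ← map_mul]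
      exact H.isA_R1 (by decide +kernel) (by decide +kernel)
    have c1 := c0.cj m
    rw [← conj_mul, cj_of_comm mz, He5.inv_self m2, m3 (L 5) (L 2) (by decide +kernel)] at c1
    have c2 := c1.cj (sg ψ s1 s2 (L 2) * n)
    rw [← conj_mul, cj3 (sq 2) n2 (swap3 (n4 _ (by decide +kernel))), cj_of_comm (Commute.mul_left (by
      rw [show L 2 = (c 195, false, false) from rfl, sg_ff]; exact (comW (by decide) _).symm) nz)] at c2
    have c3 := c2.cj (n * ψ (c 80) * m)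
    rw [cj3 (by rw [nz.symm.mul_mul_mul_comm, n2, z2, one_mul]) m2 (swap3 (by
      rw [← mul_assoc, (mz.mul_left nz).mul_pow, b3, pow_three, z2, mul_one, z2]))] at c3
    have c4 := (c3.cj (m * sg ψ s1 s2 (L 1)))
    rw [cj3 m2 (sq 1) (m4 _ (by decide +kernel))] at c4
    have c5 := c4.cj n
    rw [He5.inv_self n2, n3 (L 1) (L 5) (by decide +kernel), show L 5 = (c 96, false, false) from rfl,
      sg_ff] at c5
    exact absurd (H.CAW (by decide) c5) (by decide)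
  let y : ℕ → G := fun k => if k = 10 then m else if k = 11 then n else sg ψ s1 s2 (L k)
  have y1 : ∀ k < 10, y k = sg ψ s1 s2 (L k) := fun k hk => by simp [y, hk.ne, show k ≠ 11 by omega]
  have out : ∀ k, He5.Id.PH.inv.length ≤ k → y k = 1 := fun k hk => by
    change 12 ≤ k at hk
    simp only [y, if_neg (show k ≠ 10 by omega), if_neg (show k ≠ 11 by omega)]
    rw [L, List.getD_eq_default _ _ (by change 10 ≤ k; omega), sg_o]
  refine ⟨y, ⟨out, Comp.BN.inv_of_lt out fun k hk => ?_, fun r hr => ?_⟩, y1, fun k => ?_⟩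
  · have : ∀ k < 12, He5.Id.PH.I k = k := by decide +kernel
    rw [this k hk]; simp only [y]; split_ifs
    exacts [m2, n2, sq k]
  · have chk : ∀ r ∈ He5.Id.PH.rels, ((∀ k ∈ r, k < 10) ∧ evP r = o) ∨
      (∃ i < 10, ∃ j < 10, r = [10, i, 10, j] ∧ cj4 (L i) (L j)) ∨
      (∃ i < 10, ∃ j < 10, r = [11, i, 11, j] ∧ cj4 (TH (L i)) (TH (L j))) ∨
      (r = [10, 1, 10, 1, 10, 1] ∧ cu (L 1)) ∨ (r = [11, 2, 11, 2, 11, 2] ∧ cu (TH (L 2))) ∨
      r = [10, 11, 10, 11, 10, 11] := by decide +kernel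
    rcases chk r hr with ⟨e1, e2⟩ | ⟨i, hi, j, hj, rfl, e⟩ | ⟨i, hi, j, hj, rfl, e⟩ | ⟨rfl, e⟩ | ⟨rfl, e⟩ | rfl
    · rw [← sg_o (ψ := ψ) (s1 := s1) (s2 := s2), ← e2, ← H.ev_L, ev, ev,
        List.map_congr_left fun k hk => y1 k (e1 k hk)]
    · simp only [ev_cons, ev_nil, y1 i hi, y1 j hj, mul_one, ← mul_assoc]
      exact (congrArg (· * _) (m3 _ _ e)).trans (sq j)
    · simp only [ev_cons, ev_nil, y1 i hi, y1 j hj, mul_one, ← mul_assoc]
      exact (congrArg (· * _) (n3 _ _ e)).trans (sq j)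
    · simpa [y, pow_succ, mul_assoc] using m4 _ e
    · simpa [y, pow_succ, mul_assoc] using n4 _ e
    · simpa [y, pow_succ, mul_assoc] using a1
  · simp only [y]; split_ifs
    exacts [m1, n1, H.sg_C _]

theorem exists_rho [Finite G] : ∃ ρ : He5.Hs →* G, (∀ k < 10, ρ (He5.el (Comp.BN.nth 0 He5.lets k)) =
    sg ψ s1 s2 (L k)) ∧ ∀ x, ρ x ∈ 𝐂 := by
  obtain ⟨y, h1, h2, h3⟩ := H.exists_sat
  let f : Shrink.{0} G ≃* G := Shrink.mulEquiv
  obtain ⟨ρ0, h0⟩ := He5.link_H.hom _ _ (h1.map f.symm.toMonoidHom)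
  have hρ : ∀ k, (f.toMonoidHom.comp ρ0) (He5.tup He5.el 1 1 k) = y k := fun k => by simp [h0]
  refine ⟨f.toMonoidHom.comp ρ0, fun k hk => by rw [← h2 k hk, ← hρ, He5.tup, if_pos (by omega)], fun x => ?_⟩
  exact Comp.BN.gen_le (H := (𝐂).comap (f.toMonoidHom.comp ρ0)) (fun k => by
    rw [mem_comap, hρ]; exact h3 k) (He5.link_H.top ▸ mem_top x)

end Cf3

theorem Cf2.exists_cf3 [Finite G] (H : Cf2 A ψ h n1 n2 D g ζ) : ∃ s1 s2, Cf3 A ψ h n1 n2 D g ζ s1 s2 := by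
  obtain ⟨s1, h1⟩ := H.exists_sw
  obtain ⟨s2, h2⟩ := H.dual.exists_sw
  exact ⟨s1, s2, H, h1, h2⟩

end Cfsg.Agent.AS
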