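import Cfsg.Agent.AS.Code
import Cfsg.Agent.Comp.BitWord
import Cfsg.Agent.He5.Ext

/-! A standard subgroup `2².L₃(4)` described through a coded Sylow 2-subgroup. -/

set_option autoImplicit false
set_option synthInstance.maxSize 4000

namespace Cfsg.Agent.AS

open Subgroup
open Cfsg.Agent.Comp.BN (ev ev_cons ev_nil ev_mem)

variable {G : Type*} [Group G] {ψ : C →* G}

/-- conjugation by `m` induces `τ` -/
def Act (ψ : C →* G) (m : G) (τ : C → C) : Prop := ∀ x, m * ψ x * m⁻¹ = ψ (τ x)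

/-- conjugation by `m` induces `τ` on `V1` -/
def ActV (ψ : C →* G) (m : G) (τ : C → C) : Prop := ∀ x, V1 x → V1 (τ x) ∧ m * ψ x * m⁻¹ = ψ (τ x)

theorem cj_mul (a b x : G) : a * b * x * (a * b)⁻¹ = a * (b * x * b⁻¹) * a⁻¹ := by group

theorem cj_of_comm {a x : G} (h : Commute a x) : a * x * a⁻¹ = x := by rw [h.eq, mul_inv_cancel_right]

theorem comm_of_cj {a x : G} (h : a * x * a⁻¹ = x) : Commute a x := mul_inv_eq_iff_eq_mul.1 h

theorem comm_cj {a x : G} (h : Commute a x) (g : G) : Commute (g * a * g⁻¹) (g * x * g⁻¹) :=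
  h.map (MulAut.conj g)

theorem comm_cj' {a x g : G} (h : Commute (g * a * g⁻¹) x) : Commute a (g⁻¹ * x * g) := by
  simpa [mul_assoc] using comm_cj h g⁻¹

theorem comm_cj'' {a x g : G} (h : Commute a (g⁻¹ * x * g)) : Commute (g * a * g⁻¹) x := by
  simpa [mul_assoc] using comm_cj h g

theorem Act.mul {a b : G} {σ τ : C → C} (h : Act ψ a σ) (h' : Act ψ b τ) :
    Act ψ (a * b) fun x => σ (τ x) := fun x => by rw [cj_mul, h', h]

theorem Act.congr {a : G} {σ τ : C → C} (h : Act ψ a σ) (e : ∀ x, σ x = τ x) : Act ψ a τ :=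
  fun x => e x ▸ h x

theorem act_inn (u : C) : Act ψ (ψ u) fun x => u * x * u⁻¹ := fun x => by simp

theorem Act.inv {a : G} {σ τ : C → C} (h : Act ψ a σ) (e : ∀ x, σ (τ x) = x) : Act ψ a⁻¹ τ := fun x => by
  rw [← e x, ← h, e]; group

theorem Act.comm {a : G} {σ : C → C} (h : Act ψ a σ) {x : C} (e : σ x = x) : Commute a (ψ x) :=
  comm_of_cj (by rw [h, e])

theorem Act.of_inv {m : G} {u : C} {τ : C → C} (h : Act ψ ((ψ u)⁻¹ * m) τ) :
    Act ψ m fun x => u * τ x * u⁻¹ := by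
  simpa using (act_inn u).mul h

theorem Act.norm {a : G} {σ : C → C} (h : Act ψ a σ) : a ∈ normalizer (ψ.range : Set G) :=
  have : Finite (ψ.range : Set G) := Set.finite_range ψ
  mem_normalizer_fintype (by rintro _ ⟨x, rfl⟩; exact ⟨_, (h x).symm⟩)

theorem Act.of_basis {m : G} {τ : C → C} (h : ∀ k < 8, m * ψ (c (2 ^ k)) * m⁻¹ = ψ (τ (c (2 ^ k))))
    (e : τ 1 = 1 ∧ ∀ x, τ x = τ (c (2 ^ lo x)) * τ (rs x)) : Act ψ m τ :=
  induct (by simp [e.1]) fun x hx ih => by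
    rw [e.2, map_mul, ← ih, ← h _ ((lo_chk x).resolve_left hx).1, rs]; simp [mul_assoc]

theorem ActV.mul {a b : G} {σ τ : C → C} (h : ActV ψ a σ) (h' : ActV ψ b τ) :
    ActV ψ (a * b) fun x => σ (τ x) := fun x hx =>
  ⟨(h _ (h' x hx).1).1, by rw [cj_mul, (h' x hx).2, (h _ (h' x hx).1).2]⟩

theorem ActV.congr {a : G} {σ τ : C → C} (h : ActV ψ a σ) (e : ∀ x, V1 x → σ x = τ x) : ActV ψ a τ :=
  fun x hx => e x hx ▸ h x hx

theorem Act.toV {a : G} {σ : C → C} (h : Act ψ a σ) (e : ∀ x, V1 x → V1 (σ x)) : ActV ψ a σ :=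
  fun x hx => ⟨e x hx, h x⟩

theorem ActV.inv {a : G} {σ τ : C → C} (h : ActV ψ a σ) (e : ∀ x, V1 x → V1 (τ x) ∧ σ (τ x) = x) :
    ActV ψ a⁻¹ τ := fun x hx => ⟨(e x hx).1, by
  have := (h _ (e x hx).1).2
  rw [(e x hx).2] at this
  rw [← this]; group⟩

theorem ActV.of_basis {m : G} {τ : C → C}
    (h : ∀ k < 8, V1 (c (2 ^ k)) → m * ψ (c (2 ^ k)) * m⁻¹ = ψ (τ (c (2 ^ k))))
    (e : τ 1 = 1 ∧ ∀ x, V1 x → V1 (τ x) ∧ τ x = τ (c (2 ^ lo x)) * τ (rs x)) : ActV ψ m τ := by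
  refine fun x hx => ⟨(e.2 x hx).1, ?_⟩
  revert x
  refine induct (by simp [e.1]) fun x h1 ih hx => ?_
  obtain ⟨h2, -, h3⟩ := (lo_chk x).resolve_left h1
  rw [(e.2 x hx).2, map_mul, ← ih (h3 hx).1, ← h _ h2 (h3 hx).2, rs]; simp [mul_assoc]

/-- a word applied to a code -/
noncomputable def evT (τ : ℕ → C → C) (w : List ℕ) (x : C) : C :=
  List.rec (motive := fun _ => C) x (fun k _ ih => τ k ih) w

theorem ActV.ev {y : ℕ → G} {τ : ℕ → C → C} (h : ∀ k, ActV ψ (y k) (τ k)) (w : List ℕ) :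
    ActV ψ (ev y w) (evT τ w) := by
  induction w with
  | nil => exact fun x hx => ⟨hx, by simp; rfl⟩
  | cons k w ih => rw [ev_cons]; exact (h k).mul ih

/-- the duality -/
noncomputable def θ : C →* C := MonoidHom.mk' (T 8) (by decide +kernel)

theorem θ_θ (x : C) : θ (θ x) = x := T8_T8 x

theorem range_θ : (ψ.comp θ).range = ψ.range :=
  le_antisymm (by rintro _ ⟨x, rfl⟩; exact ⟨_, rfl⟩) (by rintro _ ⟨x, rfl⟩; exact ⟨θ x, congrArg ψ (θ_θ x)⟩)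

theorem θ_chk : ∀ x, (R x ↔ R (θ x)) ∧ (W x ↔ W (θ x)) ∧ (R1 x ↔ R1 (θ x)) ∧ (V1 x ↔ V2 (θ x)) ∧
    (V2 x ↔ V1 (θ x)) := by decide +kernel

theorem Act.dual {m : G} {i j : ℕ} (h : Act ψ m (T i)) (e : ∀ x, T i (T 8 x) = T 8 (T j x)) :
    Act (ψ.comp θ) m (T j) := fun x => (h (T 8 x)).trans (congrArg ψ (e x))

theorem Act.dual' {m : G} {i j : ℕ} (h : Act (ψ.comp θ) m (T j)) (e : ∀ x, T 8 (T j (T 8 x)) = T i x) :
    Act ψ m (T i) := fun x => by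
  have := h (T 8 x)
  change m * ψ (T 8 (T 8 x)) * m⁻¹ = ψ (T 8 _) at this
  rwa [T8_T8, e] at this

/-- the oval -/
def ov : List ℕ := [1, 2, 3, 16, 32, 48, 64, 81, 99, 114, 128, 147, 162, 177, 192, 210, 225, 243]

abbrev Ov (x : C) : Prop := x.v ∈ ov

theorem W_comm : ∀ x : C, W x → ∀ y, x * y = y * x := by decide +kernel

theorem W_of : ∀ x : C, (∀ k < 4, x * c (2 ^ k) = c (2 ^ k) * x) → W x := by decide +kernel

theorem W_sq : ∀ x : C, W x → x * x = 1 := by decide +kernel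

theorem R_W {x : C} (h : R x) : W x := by unfold R W at *; omega

theorem R_mul : ∀ x, R x → ∀ y, R y → R (x * y) := by decide +kernel

theorem W_mul : ∀ x, W x → ∀ y, W y → W (x * y) := by decide +kernel

theorem R_cases : ∀ r, R r → r ≠ 1 → ∀ x, R x → ∀ y, R y → (y = 1 → x = 1) → (y = r → x = r) →
    x ≠ 1 → x ≠ r → y = x ∨ y = x * r := by decide +kernel

theorem R_gen : ∀ r, R r → r ≠ 1 → ∃ s, R s ∧ s ≠ 1 ∧ s ≠ r ∧ ∀ x, R x → x = 1 ∨ x = r ∨ x = s ∨ x = r * s := by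
  decide +kernel

/-- The configuration. -/
structure Cfg (A : Subgroup G) (ψ : C →* G) (h n1 n2 : G) : Prop where
  inj : Function.Injective ψ
  mem : ∀ x, ψ x ∈ A
  cen : ∀ x, R x → ψ x ∈ centralizer (A : Set G)
  cen' : ∀ a ∈ A, a ∈ centralizer (A : Set G) → ∃ x, R x ∧ a = ψ x
  hA : h ∈ A
  h3 : h ^ 3 = 1
  hact : Act ψ h (T 12)
  n1A : n1 ∈ A
  n1act : ActV ψ n1 N1
  n2A : n2 ∈ A
  n2act : ActV (ψ.comp θ) n2 N1
  fa : ∀ a ∈ A, ∀ y, R y → a * ψ (c 32) * a⁻¹ = ψ (c 32 * y) → a ∈ ψ.range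
  fb : ∀ m ∈ normalizer (A : Set G), m ∈ normalizer (ψ.range : Set G) →
    ∃ u, ∃ j < 36, Act ψ ((ψ u)⁻¹ * m) (T j) ∧ (j = 0 → (ψ u)⁻¹ * m ∈ centralizer (A : Set G))
  card : Nat.card A = 80640
  te : ∀ t ∈ centralizer (A : Set G), t * t = 1 → t ≠ 1 → ∀ g, g * t * g⁻¹ ∈ centralizer (A : Set G) →
    g ∈ normalizer (A : Set G)

namespace Cfg

variable {A : Subgroup G} {h n1 n2 : G} (H : Cfg A ψ h n1 n2)

local notation "𝐊" => centralizer (A : Set G)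
local notation "𝐌" => normalizer (A : Set G)
local notation "𝐍" => normalizer (MonoidHom.range ψ : Set G)

include H

theorem dual : Cfg A (ψ.comp θ) h n2 n1 where
  inj := H.inj.comp (Function.LeftInverse.injective θ_θ)
  mem x := H.mem _
  cen x hx := H.cen _ ((θ_chk x).1.1 hx)
  cen' a h1 h2 := by
    obtain ⟨x, hx, rfl⟩ := H.cen' a h1 h2
    exact ⟨θ x, (θ_chk x).1.1 hx, congrArg ψ (θ_θ x).symm⟩
  hA := H.hA
  h3 := H.h3
  hact := H.hact.dual (by decide +kernel)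
  n1A := H.n2A
  n1act := H.n2act
  n2A := H.n1A
  n2act := by
    rw [show (ψ.comp θ).comp θ = ψ from MonoidHom.ext fun x => congrArg ψ (θ_θ x)]; exact H.n1act
  fa a ha y hy e := by
    have e1 : θ (c 32) = c 32 := by decide +kernel
    rw [MonoidHom.comp_apply, MonoidHom.comp_apply, map_mul θ, e1] at e
    exact range_θ (ψ := ψ) ▸ H.fa a ha _ ((θ_chk y).1.1 hy) e
  fb m h1 h2 := by
    obtain ⟨u, j, hj, h3, h4⟩ := H.fb m h1 (range_θ (ψ := ψ) ▸ h2)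
    have key : ∀ j < 36, ∃ i < 36, (i = 0 → j = 0) ∧ ∀ x, T j (T 8 x) = T 8 (T i x) := by decide +kernel
    obtain ⟨i, hi, h5, h6⟩ := key j hj
    have e : ψ.comp θ (θ u) = ψ u := congrArg ψ (θ_θ u)
    exact ⟨θ u, i, hi, e ▸ h3.dual h6, fun h => e ▸ h4 (h5 h)⟩
  card := H.card
  te := H.te

omit H in
theorem cjA {m a : G} (hm : m ∈ 𝐌) (ha : a ∈ A) : m * a * m⁻¹ ∈ A := (mem_normalizer_iff.1 hm a).1 ha

omit H in
theorem cjA' {m a : G} (hm : m ∈ 𝐌) (ha : a ∈ A) : m⁻¹ * a * m ∈ A := (mem_normalizer_iff''.1 hm a).1 ha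

omit H in
theorem comK {k a : G} (hk : k ∈ 𝐊) (ha : a ∈ A) : Commute k a := (hk a ha).symm

omit H in
theorem cjK {m k : G} (hm : m ∈ 𝐌) (hk : k ∈ 𝐊) : m * k * m⁻¹ ∈ 𝐊 :=
  fun _ ha => (comm_cj'' (comK hk (cjA' hm ha))).symm

omit H in
theorem cjK' {m k : G} (hm : m ∈ 𝐌) (hk : k ∈ 𝐊) : m⁻¹ * k * m ∈ 𝐊 := by
  simpa using cjK (inv_mem hm) hk

omit H in
theorem KM {k : G} (hk : k ∈ 𝐊) : k ∈ 𝐌 := centralizer_le_normalizer _ hk

omit H in
theorem AM {a : G} (ha : a ∈ A) : a ∈ 𝐌 := le_normalizer ha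

omit H in
theorem cjU {m : G} (hm : m ∈ 𝐍) (x : C) : ∃ y, m * ψ x * m⁻¹ = ψ y :=
  ((mem_normalizer_iff.1 hm _).1 ⟨x, rfl⟩).imp fun _ e => e.symm

theorem ne {x : C} (hx : x ≠ 1) : ψ x ≠ 1 := fun e => hx (H.inj (e.trans (map_one ψ).symm))

theorem comU {k : G} (hk : k ∈ 𝐊) (x : C) : Commute k (ψ x) := comK hk (H.mem x)

theorem memK {x : C} (hx : ψ x ∈ 𝐊) : R x := by
  obtain ⟨y, hy, e⟩ := H.cen' _ (H.mem x) hx
  exact H.inj e ▸ hy

theorem comm_iff {x y : C} : Commute (ψ x) (ψ y) ↔ x * y = y * x :=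
  ⟨fun e => H.inj (by rw [map_mul, map_mul, e.eq]), fun e => by rw [Commute, SemiconjBy, ← map_mul, e, map_mul]⟩

omit H in
theorem comW {x : C} (hx : W x) (y : C) : Commute (ψ x) (ψ y) := by
  rw [Commute, SemiconjBy, ← map_mul, W_comm x hx, map_mul]

omit H in
theorem sqW {x : C} (hx : W x) : ψ x * ψ x = 1 := by rw [← map_mul, W_sq x hx, map_one]

theorem toW {x : C} (hx : ∀ y, Commute (ψ x) (ψ y)) : W x := W_of x fun _ _ => H.comm_iff.1 (hx _)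

theorem mR {m : G} (hm : m ∈ 𝐌) {x : C} (hx : R x) : ∃ y, R y ∧ m * ψ x * m⁻¹ = ψ y :=
  H.cen' _ (cjA hm (H.mem x)) (cjK hm (H.cen x hx))

theorem teR {r : C} (hr : R r) (h1 : r ≠ 1) {g : G} (hg : g * ψ r * g⁻¹ ∈ 𝐊) : g ∈ 𝐌 :=
  H.te _ (H.cen r hr) (sqW (R_W hr)) (H.ne h1) g hg

theorem teC {r : C} (hr : R r) (h1 : r ≠ 1) {g : G} (hg : Commute g (ψ r)) : g ∈ 𝐌 :=
  H.teR hr h1 (by rw [cj_of_comm hg]; exact H.cen r hr)

theorem mR2 {m : G} {r x : C} (hr : R r) (h1 : r ≠ 1) (hm : Commute m (ψ r)) (hx : R x) :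
    m * ψ x * m⁻¹ = ψ x ∨ m * ψ x * m⁻¹ = ψ x * ψ r := by
  by_cases h2 : x = 1
  · simp [h2]
  by_cases h3 : x = r
  · exact Or.inl (h3 ▸ cj_of_comm hm)
  obtain ⟨y, hy, e⟩ := H.mR (H.teC hr h1 hm) hx
  rw [e, ← map_mul]
  refine (R_cases r hr h1 x hx y hy (fun e' => ?_) (fun e' => ?_) h2 h3).imp (congrArg ψ) (congrArg ψ)
  · rw [e', map_one, conj_eq_one_iff] at e
    exact H.inj (e.trans (map_one ψ).symm)
  · rw [e', ← cj_of_comm hm, mul_left_inj, mul_right_inj] at e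
    exact H.inj e

/-- an involution of the normaliser centralises an involution of the centre -/
theorem fixR {m : G} (hm : m ∈ 𝐌) (h2 : m * m = 1) : ∃ r, R r ∧ r ≠ 1 ∧ Commute m (ψ r) := by
  obtain ⟨y, hy, e⟩ := H.mR hm (x := c 64) (by decide)
  by_cases h1 : y = c 64
  · exact ⟨_, hy, h1 ▸ by decide, comm_of_cj (h1 ▸ h1 ▸ e)⟩
  refine ⟨c 64 * y, R_mul _ (by decide) _ hy, fun e' => h1 ?_, comm_of_cj ?_⟩
  · rw [eq_inv_of_mul_eq_one_right e']; decide +kernel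
  · have e' : m * ψ y * m⁻¹ = ψ (c 64) := by rw [← e, ← cj_mul, h2]; simp
    rw [map_mul, ← conj_mul, e, e', (comW (R_W hy) _).eq]

theorem idx2 {m m' : G} {r : C} (hr : R r) (h1 : r ≠ 1) (hm : Commute m (ψ r)) (hm' : Commute m' (ψ r)) :
    (∀ x, R x → Commute m (ψ x)) ∨ (∀ x, R x → Commute m' (ψ x)) ∨ ∀ x, R x → Commute (m * m') (ψ x) := by
  obtain ⟨s, hs, -, -, h2⟩ := R_gen r hr h1
  have key : ∀ {n : G}, Commute n (ψ r) → n * ψ s * n⁻¹ = ψ s → ∀ x, R x → Commute n (ψ x) :=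
    fun {n} a b x hx => by
      rcases h2 x hx with rfl | rfl | rfl | rfl
      exacts [by simp, a, comm_of_cj b, map_mul ψ _ _ ▸ a.mul_right (comm_of_cj b)]
  rcases H.mR2 hr h1 hm hs with a | a
  · exact Or.inl (key hm a)
  rcases H.mR2 hr h1 hm' hs with b | b
  · exact Or.inr (Or.inl (key hm' b))
  refine Or.inr (Or.inr (key (hm.mul_left hm') ?_))
  rw [cj_mul, b, ← conj_mul, a, cj_of_comm hm, mul_assoc, sqW (R_W hr), mul_one]

theorem hN : h ∈ 𝐍 := H.hact.norm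

theorem fa' {a : G} (ha : a ∈ A) {w : C} (hw : W w) (hr : ¬ R w) (e : Commute a (ψ w)) : a ∈ ψ.range := by
  have key : ∀ {b : G} {σ : C → C}, b ∈ A → Act ψ b σ → R ((c 32)⁻¹ * σ w) → a ∈ ψ.range :=
    fun {b σ} h1 h2 h3 => by
      have h4 := comm_cj e b
      rw [h2, ← mul_inv_cancel_left (c 32) (σ w), map_mul] at h4
      have h5 := mul_mem (mul_mem h1 ha) (inv_mem h1)
      have h6 := h4.mul_right (comK (H.cen _ h3) h5).symm.inv_right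
      rw [mul_inv_cancel_right] at h6
      exact (mem_normalizer_iff.1 h2.norm a).2 (H.fa _ h5 1 (by decide) (by rw [mul_one, cj_of_comm h6]))
  have : ∀ w, W w → ¬ R w → R ((c 32)⁻¹ * w) ∨ R ((c 32)⁻¹ * T 12 w) ∨ R ((c 32)⁻¹ * T 12 (T 12 w)) := by
    decide +kernel
  rcases this w hw hr with e | e | e
  exacts [key (σ := fun x => x) (one_mem A) (fun x => by simp) e, key H.hA H.hact e,
    key (mul_mem H.hA H.hA) (H.hact.mul H.hact) e]

/-- elements of the normaliser moving `w k` to `w' k'` normalise the Sylow subgroup -/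
theorem N_of {m k k' : G} (hm : m ∈ 𝐌) {w w' : C} (hw : W w) (hw' : W w') (hr : ¬ R w') (hk : k ∈ 𝐊)
    (hk' : k' ∈ 𝐊) (e : m * (ψ w * k) * m⁻¹ = ψ w' * k') : m ∈ 𝐍 :=
  have : Finite (ψ.range : Set G) := Set.finite_range ψ
  mem_normalizer_fintype (by
    rintro _ ⟨x, rfl⟩
    have h1 := cjA hm (H.mem x)
    have h2 := comm_cj ((comW hw x).mul_left (H.comU hk x)).symm m
    have h3 := (e ▸ h2).mul_right (comK hk' h1).symm.inv_right
    rw [mul_inv_cancel_right] at h3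
    exact H.fa' h1 hw' hr h3)

theorem N_of' {m : G} (hm : m ∈ 𝐌) {w w' : C} (hw : W w) (hw' : W w') (hr : ¬ R w')
    (e : m * ψ w * m⁻¹ = ψ w') : m ∈ 𝐍 :=
  H.N_of hm hw hw' hr (one_mem _) (one_mem _) (by simpa using e)

theorem toV {x : C} (hx : V1 x) (hr : ¬ R x) :
    ∃ a ∈ A, ∃ y, R y ∧ a * ψ x * a⁻¹ = ψ (c 32 * y) ∧ (Ov x ↔ y = 1) := by
  let y : ℕ → G := fun k => [n1, ψ (c 4), ψ (c 8)].getD k h
  let τ : ℕ → C → C := fun k =>
    [N1, fun x => c 4 * x * (c 4)⁻¹, fun x => c 8 * x * (c 8)⁻¹].getD k (T 12)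
  have h1 : ∀ k, y k ∈ A ∧ ActV ψ (y k) (τ k) := fun k =>
    match k with
    | 0 => ⟨H.n1A, H.n1act⟩
    | 1 => ⟨H.mem _, (act_inn _).toV (by decide +kernel)⟩
    | 2 => ⟨H.mem _, (act_inn _).toV (by decide +kernel)⟩
    | _ + 3 => ⟨H.hA, H.hact.toV (by decide +kernel)⟩
  have key : ∀ x, V1 x → ¬ R x → ∃ w ∈ [[], [0], [3], [0, 1], [0, 2], [0, 3], [3, 0], [3, 3], [0, 1, 2],
      [0, 1, 3], [0, 2, 0], [0, 2, 3], [0, 3, 2], [3, 0, 1], [3, 0, 2]],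
      R ((c 32)⁻¹ * evT τ w x) ∧ (Ov x ↔ (c 32)⁻¹ * evT τ w x = 1) := by decide +kernel
  obtain ⟨w, -, h2, h3⟩ := key x hx hr
  exact ⟨_, ev_mem (fun k => (h1 k).1) w, _, h2, by
    rw [mul_inv_cancel_left]; exact (ActV.ev (fun k => (h1 k).2) w x hx).2, h3⟩

omit H in
theorem U_p : IsPGroup 2 ψ.range := by
  rintro ⟨_, x, rfl⟩
  exact ⟨2, Subtype.ext (by
    change ψ x ^ (2 * 2) = 1
    rw [pow_mul, pow_two, pow_two, ← map_mul, ← map_mul, pow4, map_one])⟩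

theorem exists_norm [Finite G] {P : Subgroup G} (hP : IsPGroup 2 P) (hM : P ≤ 𝐌) :
    ∃ m ∈ 𝐌, ∀ x ∈ P, m * x * m⁻¹ ∈ 𝐍 := by
  have := Fact.mk Nat.prime_two
  obtain ⟨Q, hQ⟩ := ((U_p (ψ := ψ)).comap_subtype (K := 𝐌)).exists_le_sylow
  have h1 : ψ.range ≤ (Q.1.map (𝐌).subtype) ⊓ A := by
    rintro _ ⟨x, rfl⟩
    exact ⟨⟨⟨_, AM (H.mem x)⟩, hQ ⟨x, rfl⟩, rfl⟩, H.mem x⟩
  have h2 : IsPGroup 2 (Q.1.map (𝐌).subtype) := Q.2.map _
  obtain ⟨n, hn⟩ := IsPGroup.iff_card.1 (h2.to_inf_left (K := A))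
  have h3 : Nat.card ψ.range = 256 := (Nat.card_congr (MonoidHom.ofInjective H.inj).toEquiv).symm.trans card_C
  have h4 := card_dvd_of_le (inf_le_right : (Q.1.map (𝐌).subtype) ⊓ A ≤ A)
  rw [hn, H.card] at h4
  have h5 := eq_of_le_of_card_ge h1 (by
    rw [hn, h3]
    exact Nat.pow_le_pow_right (n := 2) (i := n) (j := 8) two_pos (not_lt.1 fun e =>
      absurd ((pow_dvd_pow 2 (show 9 ≤ n from e)).trans h4) (by norm_num)))
  obtain ⟨m, hm, h6⟩ := He5.conj_into h2 (by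
    rw [relIndex, subgroupOf, comap_map_eq_self_of_injective (𝐌).subtype_injective]
    exact Q.not_dvd_index) hP hM
  refine ⟨m, hm, fun x hx => ?_⟩
  have : Finite (ψ.range : Set G) := Set.finite_range ψ
  refine mem_normalizer_fintype fun u hu => h5.ge ⟨?_, cjA (map_subtype_le _ (h6 x hx)) (h1 hu).2⟩
  exact Subgroup.mul_mem _ (Subgroup.mul_mem _ (h6 x hx) (h1 hu).1) (Subgroup.inv_mem _ (h6 x hx))

end Cfg

end Cfsg.Agent.AS
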