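import Cfsg.Agent.AS.Pair

/-! The normaliser of the Sylow 2-subgroup of the standard subgroup. -/

set_option autoImplicit false
set_option synthInstance.maxSize 20000
set_option synthInstance.maxHeartbeats 200000

namespace Cfsg.Agent.AS

open Subgroup
open Cfsg.Agent.Comp.BN (ev ev_cons ev_nil ev_mem)

variable {G : Type*} [Group G] {ψ : C →* G} {A D : Subgroup G} {h n1 n2 g ζ : G}

local notation "𝐊" => centralizer (A : Set G)
local notation "𝐌" => normalizer (A : Set G)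
local notation "𝐍" => normalizer (MonoidHom.range ψ : Set G)
local notation "𝐂" => centralizer (D : Set G)

theorem Act.same {a b : G} {σ : C → C} (ha : Act ψ a σ) (hb : Act ψ b σ) (y : C) : Commute (a⁻¹ * b) (ψ y) :=
  comm_of_cj (by rw [cj_mul, hb, ← ha]; group)

theorem ActV.same {a b : G} {σ : C → C} (ha : ActV ψ a σ) (hb : ActV ψ b σ) (y : C) (hy : V1 y) :
    Commute (a⁻¹ * b) (ψ y) :=
  comm_of_cj (by rw [cj_mul, (hb y hy).2, ← (ha y hy).2]; group)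

theorem Act.cube {a : G} {σ : C → C} (ha : Act ψ a σ) (w : C) :
    (ψ w * a) ^ 3 = ψ (w * σ w * σ (σ w)) * a ^ 3 := by
  rw [map_mul, map_mul, ← ha (σ w), ← ha w]; simp [pow_succ, mul_assoc]

theorem psi4 (x : C) : ψ x ^ 4 = 1 := by
  rw [← map_pow, show x ^ 4 = 1 by rw [← pow4 x, ← pow_two, ← pow_two, ← pow_mul], map_one]

/-- The configuration with a second conjugate. -/
structure Cf2 (A : Subgroup G) (ψ : C →* G) (h n1 n2 : G) (D : Subgroup G) (g ζ : G) : Prop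
    extends Cfg A ψ h n1 n2 where
  nu : g ∈ normalizer (ψ.range : Set G)
  r1 : ∀ x, R x → ∃ y, R1 y ∧ g * ψ x * g⁻¹ = ψ y
  r1' : ∀ x, R x → ∃ y, R1 y ∧ g⁻¹ * ψ x * g = ψ y
  rr : ∀ y, R1 y → g⁻¹ * ψ y * g ∈ centralizer (A : Set G)
  DK : D ≤ centralizer (A : Set G)
  KD : ∀ k ∈ centralizer (A : Set G), ∃ x, R x ∧ (ψ x)⁻¹ * k ∈ D
  odd : ∀ d ∈ D, d * d = 1 → d = 1
  MD : normalizer (A : Set G) ≤ normalizer (D : Set G)
  Dg : ∀ d ∈ D, g⁻¹ * d * g ∈ centralizer (A : Set G)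
  zact : Act ψ ζ (T 13)
  z3 : ζ ^ 3 = 1
  zA : g⁻¹ * ζ * g ∈ A
  zM : ζ ∈ normalizer (A : Set G)
  hz : Commute h ζ

namespace Cfg

variable (H : Cfg A ψ h n1 n2)
include H

theorem cjW {n : G} (hn : n ∈ 𝐍) {w : C} (hw : W w) : ∃ y, W y ∧ n * ψ w * n⁻¹ = ψ y := by
  obtain ⟨y, e⟩ := cjU hn w
  refine ⟨y, H.toW fun x => ?_, e⟩
  obtain ⟨x', e'⟩ := cjU (inv_mem hn) x
  rw [inv_inv] at e'
  exact e ▸ comm_cj'' (e' ▸ comW hw x')

theorem cenA {a : G} (ha : a ∈ A) (hc : ∀ y, Commute a (ψ y)) : ∃ w, W w ∧ a = ψ w := by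
  obtain ⟨w, rfl⟩ := H.fa' ha (w := c 32) (by decide) (by decide) (hc _)
  exact ⟨w, H.toW hc, rfl⟩

theorem exists_cf2 [Finite G] (p : Pair A ψ g) : ∃ D ζ, Cf2 A ψ h n1 n2 D g ζ := by
  have rr : ∀ y, R1 y → g⁻¹ * ψ y * g ∈ 𝐊 := fun y hy => by
    obtain ⟨a, ha, e⟩ := p.r1 (c 64) (by decide)
    obtain ⟨b, hb, e'⟩ := p.r1 (c 128) (by decide)
    have chk : ∀ a, R1 a → ∀ b, R1 b → a ≠ 1 → b ≠ 1 → a ≠ b → ∀ y, R1 y → y = 1 ∨ y = a ∨ y = b ∨ y = a * b := by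
      decide +kernel
    have key : ∀ {x y}, R x → g * ψ x * g⁻¹ = ψ y → g⁻¹ * ψ y * g ∈ 𝐊 := fun {x y} hx e => by
      rw [← e]; simpa [mul_assoc] using H.cen x hx
    have ne : ∀ {x y}, x ≠ 1 → g * ψ x * g⁻¹ = ψ y → y ≠ 1 := fun {x y} hx e hy => H.ne hx (by
      simpa [hy] using e)
    rcases chk a ha b hb (ne (by decide) e) (ne (by decide) e') (fun e'' => absurd (H.inj
      (mul_left_cancel (mul_right_cancel (e.trans (e'' ▸ e'.symm))))) (by decide : c 64 ≠ c 128)) y hy with rfl | rfl | rfl | rfl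
    exacts [by simp, key (by decide) e, key (by decide) e', key (x := c 64 * c 128) (by decide +kernel)
      (by rw [map_mul, map_mul, ← conj_mul, e, e'])]
  let D := 𝐊 ⊓ (𝐊).comap (MulAut.conj g⁻¹).toMonoidHom
  have hD : ∀ d, d ∈ D ↔ d ∈ 𝐊 ∧ g⁻¹ * d * g ∈ 𝐊 := fun d => by simp [D]
  have KD : ∀ k ∈ 𝐊, ∃ x, R x ∧ (ψ x)⁻¹ * k ∈ D := fun k hk => (p.kd k hk).imp fun x e =>
    ⟨e.1, (hD _).2 ⟨mul_mem (inv_mem (H.cen x e.1)) hk, e.2⟩⟩
  have odd : ∀ d ∈ D, d * d = 1 → d = 1 := fun d hd e => by_contra fun e' =>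
    p.nm (inv_mem_iff.1 (H.te d hd.1 e e' g⁻¹ hd.2))
  have a1 : g * h * g⁻¹ ∈ 𝐍 := mul_mem (mul_mem p.nu H.hN) (inv_mem p.nu)
  have a2 : ∀ y, R1 y → Commute (g * h * g⁻¹) (ψ y) := fun y hy => comm_cj'' (comK (rr y hy) H.hA).symm
  have a3 : g * h * g⁻¹ ∈ 𝐌 := by
    obtain ⟨w, hw, e⟩ := H.cjW a1 (w := c 64) (by decide)
    refine H.teR (r := c 64) (by decide) (by decide) (e ▸ H.cen w ?_)
    refine (H.CAW hw (e ▸ (isA_R (by decide) (by decide)).cj _)).resolve_right fun hw => ?_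
    rw [← cj_of_comm (a2 w hw), mul_left_inj, mul_right_inj] at e
    exact absurd (H.inj e ▸ hw) (by decide)
  obtain ⟨u, j, hj, a4, -⟩ := H.fb _ a3 a1
  have a5 := fun w => a4.onW (w := w) (by omega)
  have a6 : j = 13 ∨ j = 14 := by
    have chk : ∀ j < 36, T j (c 16) = c 16 → T j (c 32) = c 32 → T j (T j (T j (c 64))) = c 64 →
      T j (c 64) ≠ c 64 → j = 13 ∨ j = 14 := by decide +kernel
    have w1 := T_W j (by omega) (c 64) (by decide)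
    refine chk j hj (H.inj (by rw [← a5 _ (by decide), cj_of_comm (a2 _ (by decide))]))
      (H.inj (by rw [← a5 _ (by decide), cj_of_comm (a2 _ (by decide))]))
      (H.inj (by
        rw [← a5 _ (T_W j (by omega) _ w1), ← a5 _ w1, ← a5 _ (by decide), ← cj_mul, ← cj_mul, ← pow_three',
          conj_pow, H.h3]; simp)) fun e => ?_
    obtain ⟨y, hy, e'⟩ := p.r1' (c 64) (by decide)
    have := cj_of_comm (e' ▸ comm_cj' (comm_of_cj (e ▸ a5 (c 64) (by decide))))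
    have chk' : ∀ y, R1 y → T 12 y = y → y = 1 := by decide +kernel
    rw [chk' y hy (H.inj ((H.hact y).symm.trans this)), map_one] at e'
    exact H.ne (x := c 64) (by decide) (by simpa using conj_eq_one_iff (a := g⁻¹) |>.1 (by simpa using e'))
  have a7 : g⁻¹ * ((ψ u)⁻¹ * (g * h * g⁻¹)) * g ∈ A := by
    obtain ⟨v, e⟩ := cjU (inv_mem p.nu) u⁻¹
    convert mul_mem (e ▸ H.mem v) H.hA using 1
    rw [map_inv]; group
  have a8 := mul_mem (inv_mem (AM (H.mem u))) a3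
  obtain ⟨ξ, b1, b2, b3⟩ : ∃ ξ, Act ψ ξ (T 13) ∧ g⁻¹ * ξ * g ∈ A ∧ ξ ∈ 𝐌 := by
    rcases a6 with rfl | rfl
    · exact ⟨_, a4, a7, a8⟩
    · exact ⟨_, (a4.mul a4).congr (by decide +kernel), by convert mul_mem a7 a7 using 1; group, mul_mem a8 a8⟩
  have b4 : Act ψ (ξ ^ 3) fun x => x := pow_three' ξ ▸ ((b1.mul b1).mul b1).congr (by decide +kernel)
  have b5 : ∀ n, g⁻¹ * ξ ^ n * g ∈ A := fun n => by
    have := pow_mem (x := g⁻¹ * ξ * g⁻¹⁻¹) (by simpa) n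
    rwa [conj_pow, inv_inv] at this
  have b6 : Act ψ (ξ ^ 4) (T 13) := pow_succ ξ 3 ▸ b4.mul b1
  have b7 : (ξ ^ 4) ^ 3 = 1 := by
    obtain ⟨w, -, e⟩ := H.cenA (b5 3) fun y => by
      obtain ⟨y', e⟩ := cjU p.nu y
      exact (comm_cj' (e ▸ (b4.comm (x := y') rfl).symm)).symm
    rw [← pow_mul, mul_comm, pow_mul, show ξ ^ 3 = g * ψ w * g⁻¹ by rw [← e]; group, conj_pow, psi4]; simp
  refine ⟨D, ξ ^ 4, H, p.nu, p.r1, p.r1', rr, inf_le_left, KD, odd, le_normalizer_iff.2 fun m hm d hd => ?_,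
    fun d hd => ((hD d).1 hd).2, b6, b7, b5 4, pow_mem b3 4, ?_⟩
  · obtain ⟨n, hn⟩ := (He5.odd_or_even d).resolve_right fun ⟨n, h1, h2⟩ => h1 (odd _ (pow_mem hd n) h2)
    obtain ⟨x, hx, e⟩ := KD _ (cjK hm (pow_mem hd.1 (n + 1)))
    convert mul_mem e e using 1
    rw [← (H.comU (cjK hm (pow_mem hd.1 (n + 1))) x).inv_right.symm.mul_mul_mul_comm, ← mul_inv_rev,
      sqW (R_W hx), conj_mul, ← pow_add, show n + 1 + (n + 1) = 2 * n + 1 + 1 by ring, pow_succ, hn]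
    simp
  · have b8 := pow_mem b3 4
    generalize ξ ^ 4 = ζ at b6 b7 b8 ⊢
    obtain ⟨w, hw, e⟩ := H.cenA (mul_mem (cjA b8 H.hA) (inv_mem H.hA)) fun y => comm_of_cj (by
      have chk : ∀ y, T 13 (T 12 (T 14 (T 24 y))) = y := by decide +kernel
      rw [cj_mul, cj_mul, cj_mul, H.hact.inv (τ := T 24) (by decide +kernel),
        b6.inv (τ := T 14) (by decide +kernel), H.hact, b6, chk])
    have c1 := H.hact.cube w
    have c2 := b6.cube w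
    rw [← e, inv_mul_cancel_right, conj_pow, H.h3, mul_one, mul_one, mul_inv_cancel] at c1
    rw [← He5.inv_self (sqW (ψ := ψ) hw), ← e, show (ζ * h * ζ⁻¹ * h⁻¹)⁻¹ * ζ = h * ζ * h⁻¹ by group, conj_pow,
      b7, mul_one, mul_one, mul_inv_cancel] at c2
    have chk : ∀ w, W w → w * T 12 w * T 12 (T 12 w) = 1 → w * T 13 w * T 13 (T 13 w) = 1 → w = 1 := by
      decide +kernel
    rw [chk w hw (H.inj (c1.symm.trans (map_one ψ).symm)) (H.inj (c2.symm.trans (map_one ψ).symm)), map_one,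
      mul_inv_eq_one] at e
    exact (comm_of_cj e).symm

end Cfg

/-- the part of a product selected by a bit -/
noncomputable def pk (b : ℕ) (x i : C) : C := Comp.ite' (Nat.beq (Nat.land x.v b) 0) 1 i

/-- the linear map on `V1` with given values on a basis -/
noncomputable def lin (i1 i2 i3 i4 i5 i6 : C) (x : C) : C :=
  pk 1 x i1 * (pk 2 x i2 * (pk 16 x i3 * (pk 32 x i4 * (pk 64 x i5 * pk 128 x i6))))

theorem lin_spec {m : G} {i1 i2 i3 i4 i5 i6 : C} (h1 : m * ψ (c 1) * m⁻¹ = ψ i1) (h2 : m * ψ (c 2) * m⁻¹ = ψ i2)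
    (h3 : m * ψ (c 16) * m⁻¹ = ψ i3) (h4 : m * ψ (c 32) * m⁻¹ = ψ i4) (h5 : m * ψ (c 64) * m⁻¹ = ψ i5)
    (h6 : m * ψ (c 128) * m⁻¹ = ψ i6) {x : C} (hx : V1 x) : m * ψ x * m⁻¹ = ψ (lin i1 i2 i3 i4 i5 i6 x) := by
  have chk : ∀ x, V1 x → lin (c 1) (c 2) (c 16) (c 32) (c 64) (c 128) x = x := by decide +kernel
  have key : ∀ {b a i}, m * ψ a * m⁻¹ = ψ i → m * ψ (pk b x a) * m⁻¹ = ψ (pk b x i) := fun {b a i} e => by
    unfold pk; cases Nat.beq (Nat.land x.v b) 0 <;> simp [e]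
  conv_lhs => rw [← chk x hx]
  simp only [lin, map_mul, ← conj_mul, key h1, key h2, key h3, key h4, key h5, key h6]

/-- an involution exchanging the two four-groups -/
structure Sw (ψ : C →* G) (h : G) (D : Subgroup G) (ζ s : G) : Prop where
  cd : s ∈ centralizer (D : Set G)
  sq : s * s = 1
  act : Act ψ s (T 36)
  h : s * h * s⁻¹ = ζ

theorem V1_comm : ∀ x : C, V1 x → ∀ y, V1 y → x * y = y * x := by decide +kernel

theorem V1_of : ∀ x : C, V1 x → ¬ W x → ∀ y, x * y = y * x → V1 y := by decide +kernel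

namespace Cf2

open Cfg

variable (H : Cf2 A ψ h n1 n2 D g ζ)
include H

theorem dual : Cf2 A (ψ.comp θ) h n2 n1 D g (ζ * ζ) where
  toCfg := H.toCfg.dual
  nu := range_θ (ψ := ψ) ▸ H.nu
  r1 x hx := by
    obtain ⟨y, hy, e⟩ := H.r1 _ ((θ_chk x).1.1 hx)
    exact ⟨θ y, (θ_chk y).2.2.1.1 hy, e.trans (congrArg ψ (θ_θ y).symm)⟩
  r1' x hx := by
    obtain ⟨y, hy, e⟩ := H.r1' _ ((θ_chk x).1.1 hx)
    exact ⟨θ y, (θ_chk y).2.2.1.1 hy, e.trans (congrArg ψ (θ_θ y).symm)⟩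
  rr y hy := H.rr _ ((θ_chk y).2.2.1.1 hy)
  DK := H.DK
  KD k hk := by
    obtain ⟨y, hy, e⟩ := H.KD k hk
    exact ⟨θ y, (θ_chk y).1.1 hy, (congrArg ψ (θ_θ y) : ψ.comp θ (θ y) = ψ y) ▸ e⟩
  odd := H.odd
  MD := H.MD
  Dg := H.Dg
  zact := ((H.zact.mul H.zact).congr (τ := T 14) (by decide +kernel)).dual (by decide +kernel)
  z3 := by rw [← pow_two, ← pow_mul, mul_comm, pow_mul, H.z3, one_pow]
  zA := by convert mul_mem H.zA H.zA using 1; group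
  zM := mul_mem H.zM H.zM
  hz := H.hz.mul_right H.hz

theorem two {d : G} (hd : d ∈ D) {n : ℕ} (e : d ^ 2 ^ n = 1) : d = 1 := by
  induction n generalizing d with
  | zero => simpa using e
  | succ n ih => exact H.odd d hd (ih (mul_mem hd hd) (by rwa [← pow_two, ← pow_mul, ← pow_succ']))

theorem AC {a : G} (ha : a ∈ A) : a ∈ 𝐂 := fun _ hd => (comK (H.DK hd) ha).eq

theorem AC' {a : G} (ha : g⁻¹ * a * g ∈ A) : a ∈ 𝐂 := fun d hd => by
  simpa [mul_assoc] using (comm_cj (comK (H.Dg d hd) ha) g).eq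

theorem comD {d : G} (hd : d ∈ D) (x : C) : Commute d (ψ x) := H.comU (H.DK hd) x

omit H in
theorem comC {d a : G} (hd : d ∈ D) (ha : a ∈ 𝐂) : Commute d a := ha d hd

theorem CW {m : G} (hm : ∀ w, W w → Commute m (ψ w)) : ∃ u, (ψ u)⁻¹ * m ∈ D := by
  have h1 := H.teC (r := c 64) (by decide) (by decide) (hm _ (by decide))
  obtain ⟨u, j, hj, a1, a2⟩ := H.fb m h1 (H.N_of' h1 (w := c 32) (by decide) (by decide) (by decide)
    (cj_of_comm (hm _ (by decide))))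
  have chk : ∀ j < 36, (∀ w, W w → T j w = w) → j = 0 := by decide +kernel
  obtain ⟨x, -, e⟩ := H.KD _ (a2 (chk j hj fun w hw =>
    H.inj (by rw [← a1.onW (by omega) hw, cj_of_comm (hm w hw)])))
  exact ⟨u * x, by rwa [map_mul, mul_inv_rev, mul_assoc]⟩

theorem comL {m : G} {u y : C} (e : (ψ u)⁻¹ * m ∈ D) (hm : Commute m (ψ y)) : u * y = y * u :=
  H.comm_iff.1 (by simpa using hm.mul_left (H.comD e y).inv_left)

theorem CU {m : G} (hm : ∀ y, Commute m (ψ y)) : ∃ w, W w ∧ (ψ w)⁻¹ * m ∈ D := by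
  obtain ⟨u, e⟩ := H.CW fun w _ => hm w
  exact ⟨u, W_of u fun _ _ => H.comL e (hm _), e⟩

theorem CV {m : G} (hm : ∀ y, V1 y → Commute m (ψ y)) : ∃ v, V1 v ∧ (ψ v)⁻¹ * m ∈ D := by
  obtain ⟨u, e⟩ := H.CW fun w hw => hm w (by unfold V1 W at *; omega)
  exact ⟨u, V1_of (c 1) (by decide) (by decide) u (H.comL e (hm _ (by decide))).symm, e⟩

theorem inU {m : G} {u : C} (e : (ψ u)⁻¹ * m ∈ D) {n : ℕ} (hm : m ^ 2 ^ n = 1) : m = ψ u := by
  have h1 : Commute m (ψ u) := by simpa using (Commute.refl (ψ u)).mul_left (H.comD e u)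
  have := H.two e (n := n + 2) (by
    rw [h1.symm.inv_left.mul_pow, pow_add 2, pow_mul m, hm, mul_comm (2 ^ n), pow_mul, inv_pow,
      show 2 ^ 2 = 4 from rfl, psi4]
    simp)
  exact (inv_mul_eq_one.1 this).symm

theorem NW {n : G} (hn : ∀ w, W w → ∃ y, W y ∧ n⁻¹ * ψ w * n = ψ y) : n ∈ 𝐍 :=
  have : Finite (ψ.range : Set G) := Set.finite_range ψ
  mem_normalizer_fintype (by
    rintro _ ⟨x, rfl⟩
    obtain ⟨u, e⟩ := H.CW (m := n * ψ x * n⁻¹) fun w hw => by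
      obtain ⟨y, hy, e⟩ := hn w hw
      exact comm_cj'' (e ▸ (comW hy x).symm)
    exact ⟨u, (H.inU e (n := 2) (by rw [conj_pow, show 2 ^ 2 = 4 from rfl, psi4]; simp)).symm⟩)

theorem isA_R1 {y : C} (hy : R1 y) (h1 : y ≠ 1) : IsA ψ (ψ y) := by
  obtain ⟨x, e⟩ := cjU (inv_mem H.nu) y
  rw [inv_inv] at e
  exact ⟨g, x, H.memK (e ▸ H.rr y hy), fun e' => H.ne h1 (by
    simpa using conj_eq_one_iff (a := g⁻¹) |>.1 (by simpa [e'] using e)), by rw [← e]; group⟩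

theorem ovA [Finite G] {x : C} (hx : V1 x) : IsA ψ (ψ x) ↔ Ov x := by
  by_cases hr : R x
  · have chk : ∀ x, R x → (x ≠ 1 ↔ Ov x) := by decide +kernel
    rw [← chk x hr]
    refine ⟨?_, isA_R hr⟩
    rintro ⟨a, r, -, r1, e⟩ rfl
    exact H.ne r1 (by simpa using e.symm)
  obtain ⟨a, -, y, hy, e, h1⟩ := H.toV hx hr
  have chk : ∀ y, R y → W (c 32 * y) ∧ (R (c 32 * y) ∨ R1 (c 32 * y) → y = 1) := by decide +kernel
  refine ⟨fun h2 => h1.2 ((chk y hy).2 (H.CAW (chk y hy).1 (e ▸ h2.cj a))), fun h2 => ?_⟩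
  rw [h1.1 h2, mul_one] at e
  exact IsA.cj' (e ▸ H.isA_R1 (by decide) (by decide))

theorem exists_nu : ∃ ν, g⁻¹ * ν * g ∈ A ∧ (∀ x, V1 x → ∃ y, V1 y ∧ ν * ψ x * ν⁻¹ = ψ y) ∧
    ∀ w, W w → ν * ψ (c 64) * ν⁻¹ ≠ ψ w := by
  have aux : ∀ {ψ' : C →* G} {n n' : G}, Cfg A ψ' h n n' → ψ'.range = ψ.range → ∀ x, V1 x →
      g⁻¹ * ψ (c 1) * g = ψ' x → ∀ y, R1 y → g⁻¹ * ψ (c 64) * g = ψ' y → ∃ ν, g⁻¹ * ν * g ∈ A ∧
      (∀ x, V1 x → ∃ y, V1 y ∧ ν * ψ x * ν⁻¹ = ψ y) ∧ ∀ w, W w → ν * ψ (c 64) * ν⁻¹ ≠ ψ w :=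
    fun {ψ' n n'} H' hr x hx ex y hy ey => by
    have a1 : ∀ u, ∃ v, g⁻¹ * ψ u * g = ψ' v := fun u => by
      obtain ⟨v, e⟩ := hr.ge ((mem_normalizer_iff''.1 H.nu _).1 ⟨u, rfl⟩)
      exact ⟨v, e.symm⟩
    have a2 : ∀ v, ∃ u, g * ψ' v * g⁻¹ = ψ u := fun v => by
      obtain ⟨u, e⟩ := (mem_normalizer_iff.1 H.nu _).1 (hr.le ⟨v, rfl⟩)
      exact ⟨u, e.symm⟩
    have a3 : ∀ {u v}, g⁻¹ * ψ u * g = ψ' v → (W u ↔ W v) := fun {u v} e =>
      ⟨fun hu => H'.toW fun w => by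
        obtain ⟨w', e'⟩ := a2 w
        exact e ▸ (comm_cj' (e' ▸ (comW hu w').symm)).symm, fun hv => H.toW fun w => by
        obtain ⟨w', e'⟩ := a1 w
        simpa [← e, ← e', mul_assoc] using comm_cj (comW (ψ := ψ') hv w') g⟩
    refine ⟨g * n * g⁻¹, by simpa [mul_assoc] using H'.n1A, fun u hu => ?_, fun w hw e => ?_⟩
    · obtain ⟨v, e⟩ := a1 u
      have hv := V1_of x hx (mt (a3 ex).2 (by decide)) v (H'.comm_iff.1 (by
        simpa [← e, ← ex] using comm_cj (H.comm_iff.2 (V1_comm (c 1) (by decide) u hu)) g⁻¹))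
      obtain ⟨w, e'⟩ := a2 (N1 v)
      refine ⟨w, V1_of (c 1) (by decide) (by decide) w (H.comm_iff.1 ?_), ?_⟩
      · exact (e' ▸ comm_cj'' (ex ▸ H'.comm_iff.2 (V1_comm _ (H'.n1act v hv).1 x hx))).symm
      · rw [← e', ← (H'.n1act v hv).2, ← e]; group
    · have chk : ∀ y, R1 y → V1 y ∧ (W (N1 y) → y = 1) := by decide +kernel
      have e1 : g⁻¹ * ψ w * g = ψ' (N1 y) := by rw [← e, ← (H'.n1act y (chk y hy).1).2, ← ey]; group
      rw [(chk y hy).2 ((a3 e1).1 hw), map_one] at ey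
      exact H.ne (x := c 64) (by decide) (by simpa using conj_eq_one_iff (a := g⁻¹) |>.1 (by simpa using ey))
  obtain ⟨x, ex⟩ := cjU (inv_mem H.nu) (c 1)
  obtain ⟨y, hy, ey⟩ := H.r1' (c 64) (by decide)
  have chk : ∀ u : C, u * u = 1 → V1 u ∨ V2 u := by decide +kernel
  rcases chk x (H.inj (by
    rw [map_mul, ← ex, conj_mul, ← map_mul, show c 1 * c 1 = 1 by decide +kernel]; simp)) with e | e
  · exact aux H.toCfg rfl x e (by simpa using ex) y hy ey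
  · exact aux H.toCfg.dual range_θ _ ((θ_chk x).2.2.2.2.1 e) (by simpa [θ_θ] using ex) _
      ((θ_chk y).2.2.1.1 hy) (by simpa [θ_θ] using ey)

theorem zC : ζ ∈ 𝐂 := H.AC' H.zA

theorem z1act : Act ψ (h * h * (ζ * ζ)) (T 2) :=
  ((H.hact.mul H.hact).mul (H.zact.mul H.zact)).congr (by decide +kernel)

theorem z1C : h * h * (ζ * ζ) ∈ 𝐂 := mul_mem (mul_mem (H.AC H.hA) (H.AC H.hA)) (mul_mem H.zC H.zC)

theorem K2 {n : G} {τ : C → C} (hn : ActV ψ n τ) (e : ∀ x, V1 x → T 2 (τ x) = τ (T 2 x)) :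
    ∃ v, ActV ψ (n * ψ v) τ ∧ ∃ d ∈ D, n * ψ v * (h * h * (ζ * ζ)) = h * h * (ζ * ζ) * (n * ψ v) * d := by
  have a1 := H.z1act
  generalize h * h * (ζ * ζ) = ξ at a1 ⊢
  have a2 := a1.toV (by decide +kernel)
  obtain ⟨v, hv, hd⟩ := H.CV (((a2.mul hn).congr e).same (hn.mul a2))
  have chk : ∀ v, V1 v → V1 (T 25 v) ∧ v⁻¹ * T 25 v = T 25 (T 25 v) ∧ T 2 (T 25 (T 25 v)) = T 25 v := by
    decide +kernel
  obtain ⟨b1, b2, b3⟩ := chk v hv
  refine ⟨T 25 v, fun x hx => ?_, _, hd, ?_⟩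
  · rw [cj_mul, cj_of_comm (H.comm_iff.2 (V1_comm _ b1 x hx))]; exact hn x hx
  · have b4 := a1 (T 25 (T 25 v))
    rw [b3] at b4
    have b5 := (H.comD hd (T 25 (T 25 v))).eq
    calc _ = ξ * n * ψ v * ((ψ v)⁻¹ * ((ξ * n)⁻¹ * (n * ξ)) * ψ (T 25 (T 25 v))) := by rw [← b4]; group
      _ = _ := by
        rw [b5, ← b2, map_mul, map_inv]; group

theorem K0 {e : G} (h1 : ∀ y, Commute e (ψ y)) (h2 : Commute e (h * h * (ζ * ζ))) : e ∈ D := by
  obtain ⟨w, hw, hd⟩ := H.CU h1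
  have chk : ∀ w, W w → T 2 w = w → w = 1 := by decide +kernel
  have := chk w hw (H.inj (by
    rw [← H.z1act, cj_of_comm (by simpa using (h2.mul_left (comC hd H.z1C).inv_left).symm)]))
  simpa [this] using hd

theorem DA {e : G} (h1 : e ∈ D) (h2 : e ∈ A ∨ g⁻¹ * e * g ∈ A) : e = 1 := by
  refine H.odd e h1 ?_
  rcases h2 with h2 | h2
  · obtain ⟨x, hx, rfl⟩ := H.cen' e h2 (H.DK h1)
    exact sqW (R_W hx)
  · obtain ⟨x, hx, e'⟩ := H.cen' _ h2 (H.Dg e h1)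
    rw [show e = g * ψ x * g⁻¹ by rw [← e']; group, conj_mul, sqW (R_W hx)]; simp

theorem K3 [Finite G] {a : G} (h1 : a ∈ 𝐂) (h2 : a * a ∈ D) : ∃ d ∈ D, a * d ∈ 𝐂 ∧ a * d * (a * d) = 1 := by
  obtain ⟨n, hn⟩ := (He5.odd_or_even (a * a)).resolve_right fun ⟨n, h3, h4⟩ => h3 (H.odd _ (pow_mem h2 n) h4)
  refine ⟨_, pow_mem h2 n, mul_mem h1 (pow_mem (mul_mem h1 h1) n), ?_⟩
  rw [← hn, ← pow_two a]; group

theorem exists_sw [Finite G] : ∃ s, Sw ψ h D ζ s := by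
  obtain ⟨ν, a1, a2, a3⟩ := H.exists_nu
  have a4 : ∀ y, R1 y → ν * ψ y * ν⁻¹ = ψ y := fun y hy => cj_of_comm (by
    simpa [mul_assoc] using comm_cj (comK (H.rr y hy) a1).symm g)
  have a5 : ∀ {x y}, V1 x → V1 y → ν * ψ x * ν⁻¹ = ψ y → (Ov x ↔ Ov y) := fun {x y} hx hy e => by
    rw [← H.ovA hx, ← H.ovA hy, ← e]; exact ⟨fun a => a.cj _, IsA.cj'⟩
  obtain ⟨i1, v1, e1⟩ := a2 (c 1) (by decide)
  obtain ⟨i2, v2, e2⟩ := a2 (c 2) (by decide)
  obtain ⟨i5, v5, e5⟩ := a2 (c 64) (by decide)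
  obtain ⟨i6, v6, e6⟩ := a2 (c 128) (by decide)
  have a6 : ActV ψ ν (lin i1 i2 (c 16) (c 32) i5 i6) := fun x hx => by
    obtain ⟨y, hy, e⟩ := a2 x hx
    have := lin_spec e1 e2 (a4 _ (by decide)) (a4 _ (by decide)) e5 e6 hx
    exact ⟨H.inj (e.symm.trans this) ▸ hy, this⟩
  have chk : ∀ a ∈ ov, ¬ W (c a) → ∀ b ∈ ov, Ov (lin 1 1 1 1 (c a) (c b) (c 192)) → ∀ p ∈ ov, ∀ q ∈ ov,
      Ov (lin (c p) (c q) 1 1 1 1 (c 3)) →
      (∀ x, V1 x → (Ov x ↔ Ov (lin (c p) (c q) (c 16) (c 32) (c a) (c b) x))) →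
      ∃ u ∈ [[], [1], [2], [1, 2]], ∃ v ∈ [[], [1], [2], [1, 2]], ∃ w ∈ [[], [3], [3, 3]], ∀ x, V1 x →
        evT (fun k => [N1, fun x => c 4 * x * (c 4)⁻¹, fun x => c 8 * x * (c 8)⁻¹, T 13].getD k
          (lin (c p) (c q) (c 16) (c 32) (c a) (c b))) (0 :: (u ++ 4 :: (v ++ (w ++ [0])))) x = T 36 x := by
    decide +kernel
  have a7 := fun x hx => a5 hx (a6 x hx).1 (a6 x hx).2
  obtain ⟨u, -, v, -, w, -, a8⟩ := chk _ ((a5 (by decide) v5 e5).1 (by decide)) (fun e => a3 _ e (by rwa [c_v])) _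
    ((a5 (by decide) v6 e6).1 (by decide)) (by rw [c_v, c_v]; exact (a7 (c 192) (by decide)).1 (by decide)) _
    ((a5 (by decide) v1 e1).1 (by decide)) _ ((a5 (by decide) v2 e2).1 (by decide))
    (by rw [c_v, c_v]; exact (a7 (c 3) (by decide)).1 (by decide)) (by simpa only [c_v] using a7)
  simp only [c_v] at a8
  have a9 : ∀ k, [n1, ψ (c 4), ψ (c 8), ζ].getD k ν ∈ 𝐂 ∧ ActV ψ ([n1, ψ (c 4), ψ (c 8), ζ].getD k ν)
      ([N1, fun x => c 4 * x * (c 4)⁻¹, fun x => c 8 * x * (c 8)⁻¹, T 13].getD k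
        (lin i1 i2 (c 16) (c 32) i5 i6)) := fun k =>
    match k with
    | 0 => ⟨H.AC H.n1A, H.n1act⟩
    | 1 => ⟨H.AC (H.mem _), (act_inn _).toV (by decide +kernel)⟩
    | 2 => ⟨H.AC (H.mem _), (act_inn _).toV (by decide +kernel)⟩
    | 3 => ⟨H.zC, H.zact.toV (by decide +kernel)⟩
    | _ + 4 => ⟨H.AC' a1, a6⟩
  obtain ⟨v', b1, d, hd, b2⟩ := H.K2 ((ActV.ev (fun k => (a9 k).2) _).congr a8) (by decide +kernel)
  have b3 := mul_mem (ev_mem (fun k => (a9 k).1) (0 :: (u ++ 4 :: (v ++ (w ++ [0]))))) (H.AC (H.mem v'))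
  generalize ev _ _ * ψ v' = s at b1 b2 b3
  have b4 : s * (h * h * (ζ * ζ)) * s⁻¹ = h * h * (ζ * ζ) * d := by
    rw [b2, mul_assoc _ s, ← (comC hd b3).eq]; group
  have b5 : ∀ {a : G}, a ∈ 𝐂 → Commute a (h * h * (ζ * ζ)) → Commute (s * a * s⁻¹) (h * h * (ζ * ζ)) :=
    fun {a} h1 h2 => by
      have := (b4 ▸ comm_cj h2 s).mul_right
        (comC hd (mul_mem (mul_mem b3 h1) (inv_mem b3))).symm.inv_right
      rwa [mul_inv_cancel_right] at this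
  have b6 : s ∈ 𝐍 := H.NW fun w hw => ⟨T 36 w, T_W 36 (by decide) w hw, by
    simpa using (b1.inv (τ := T 36) (by decide +kernel) w (by unfold V1 W at *; omega)).2⟩
  have b7 : Act ψ s (T 36) := Act.of_basis (fun k hk => by
    by_cases hv : V1 (c (2 ^ k))
    · exact (b1 _ hv).2
    obtain ⟨y, e⟩ := cjU b6 (c (2 ^ k))
    have chk : ∀ k < 8, ¬ V1 (c (2 ^ k)) → T 2 (c (2 ^ k)) = c (2 ^ k) ∧ V1 (c (2 ^ k) * c 1 * (c (2 ^ k))⁻¹) ∧
      ∀ y, T 2 y = y → y * T 36 (c 1) * y⁻¹ = T 36 (c (2 ^ k) * c 1 * (c (2 ^ k))⁻¹) → y = T 36 (c (2 ^ k)) := by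
      decide +kernel
    obtain ⟨c1, c2, c3⟩ := chk k hk hv
    rw [e, c3 y (H.inj (by
      rw [← H.z1act, ← e, cj_of_comm (b5 (H.AC (H.mem _)) (H.z1act.comm c1).symm).symm])) (H.inj (by
      rw [← (b1 _ c2).2, map_mul, map_mul, map_inv, ← e, ← (b1 (c 1) (by decide)).2]; simp [mul_assoc]))])
    (by decide +kernel)
  have hh : Commute h (h * h * (ζ * ζ)) := ((Commute.refl h).mul_right (.refl h)).mul_right (H.hz.mul_right H.hz)
  have hz : Commute ζ (h * h * (ζ * ζ)) :=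
    (H.hz.symm.mul_right H.hz.symm).mul_right ((Commute.refl ζ).mul_right (.refl ζ))
  have b8 : s * h * s⁻¹ = ζ := (inv_mul_eq_one.1 (H.DA (H.K0 (H.zact.same (((b7.mul H.hact).mul
    (b7.inv (τ := T 36) (by decide +kernel))).congr (by decide +kernel))) (hz.inv_left.mul_left
      (b5 (H.AC H.hA) hh))) (Or.inr (by
      have := H.teR (r := c 64) (g := g⁻¹ * s) (by decide) (by decide) (by
        rw [cj_mul, b7, inv_inv]; exact H.rr _ (by decide +kernel))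
      convert mul_mem (inv_mem H.zA) (cjA this H.hA) using 1; group)))).symm
  have b9 : s * ζ * s⁻¹ = h := (inv_mul_eq_one.1 (H.DA (H.K0 (H.hact.same (((b7.mul H.zact).mul
    (b7.inv (τ := T 36) (by decide +kernel))).congr (by decide +kernel))) (hh.inv_left.mul_left
      (b5 H.zC hz))) (Or.inl (by
      obtain ⟨y, hy, e⟩ := H.r1 (c 64) (by decide)
      have := H.teR (r := c 64) (g := s * g) (by decide) (by decide) (by
        rw [cj_mul, e, b7]; exact H.cen _ ((by decide +kernel : ∀ y, R1 y → R (T 36 y)) y hy))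
      convert mul_mem (inv_mem H.hA) (cjA this H.zA) using 1; group)))).symm
  obtain ⟨d', hd', c1, c2⟩ := H.K3 b3 (H.K0 (fun y => (b7.mul b7).comm (by revert y; decide +kernel))
    (by
      have : Commute s (h * h * (ζ * ζ)) := comm_of_cj (by
        rw [← conj_mul, ← conj_mul, ← conj_mul, b8, b9]
        exact ((H.hz.mul_right H.hz).mul_left (H.hz.mul_right H.hz)).eq.symm)
      exact this.mul_left this))
  exact ⟨_, c1, c2, fun x => by rw [cj_mul, cj_of_comm (H.comD hd' x), b7],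
    by rw [cj_mul, cj_of_comm (comC hd' (H.AC H.hA)), b8]⟩

end Cf2

end Cfsg.Agent.AS
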