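import Cfsg.Agent.AS.Cfg
import Cfsg.Agent.ONT.Ident
import Cfsg.Agent.ONT.Code
import Cfsg.Prelude.Def_Local

/-! The configuration exists. -/

set_option autoImplicit false
set_option synthInstance.maxSize 4000
set_option maxRecDepth 100000

namespace Cfsg.Agent.AS

open Subgroup ONT
open Cfsg.Agent.Comp (dig anyL anyL_iff beq_iff)
open Cfsg.Agent.Comp.BN (ev ev_cons ev_nil ev_append nth appendL appendL_eq invW ev_invW subst ev_subst map_ev)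

def BW : List (List ℕ) := [[2, 0, 1, 0, 2, 0, 2, 0, 1, 1, 0, 2, 0, 2, 0, 1, 1, 0, 1], [5, 3, 1, 1, 0, 2, 0, 2, 0, 1, 0, 2, 0, 2, 0, 2, 0, 1, 0], [2, 0, 1, 1, 0, 1, 0, 2, 0, 1, 1, 0, 1], [5, 1, 0, 2, 0, 2, 0, 2, 0, 1, 0, 2, 0, 2, 0, 1, 1], [5, 1, 0, 2, 0, 1, 0, 2, 0, 1, 1, 0, 2, 0, 1, 0, 2, 0, 1], [0], [5], [3]]

def LW : List (List ℕ) := [[], [1, 0, 1, 0, 1, 0, 2, 0, 1, 0, 1, 0, 2, 0, 1, 1, 0], [1, 0, 2, 0, 1, 1, 0, 2, 0, 2, 0, 1, 0, 1, 0, 1, 0], [1, 0, 1, 1, 0, 2, 0, 1, 0, 1, 1, 0, 2], [1, 0, 2, 0, 1, 1, 0, 1, 0, 2, 0, 1, 0, 1, 0, 1, 1], [2, 0, 1, 1, 0, 1, 0, 2, 0, 2, 0, 1, 0, 1, 0, 2, 0, 1, 0], [1, 0, 1, 0, 2, 0, 2, 0, 1, 1, 0, 1, 0, 1, 1, 0], [1, 1, 0, 2, 0, 1, 0, 1, 1, 0, 1, 0, 1, 0, 2, 0], [1, 0, 2, 0, 1, 1, 0, 1, 0, 1, 0], [1, 0, 1, 1, 0, 2, 0, 2, 0, 1, 1, 0, 1, 1], [2, 0, 1,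 0, 1, 1, 0, 1, 0, 1, 1, 0, 1, 0, 1, 0, 2, 0], [1, 0, 2, 0, 2, 0, 1, 0, 1, 0, 2, 0, 1, 1, 0, 1, 0]]

def CW : List (List ℕ) := [[0, 1, 0, 1, 0, 1, 1], [1, 1, 0, 1, 1, 0, 1, 0, 1, 0, 2, 0, 2, 0, 1], [2, 0, 1, 0, 1, 0, 2, 0, 1, 0, 1, 1], [0, 2, 0, 1, 0, 1, 1, 0, 1, 0, 1, 1, 0, 1], [0, 2, 0, 1, 0, 1, 1, 0, 1, 0, 2, 0, 1, 0, 1],
  [0, 1, 0, 2, 0, 1, 0, 2, 0, 2], [1, 0, 2, 0, 1, 1], [1, 1, 0, 2, 0, 2, 0, 1, 0, 2, 0, 2], [1, 0, 1, 1, 0, 2, 0, 1, 0, 1], [1, 0, 1, 1, 0, 2],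
  [1, 0, 2, 0, 2, 0, 1, 1], [2, 0, 2, 0, 1, 0, 1, 0, 2], [0, 2, 0, 1, 0, 1, 0, 2, 0, 1, 0, 1], [1, 0, 1, 1, 0, 1, 0, 2, 0, 1, 0, 1], [1, 0, 1, 1],
  [1, 0, 2, 0, 1, 0, 1], [1, 1, 0, 1], [0, 2, 0, 2, 0, 1, 1, 0, 2], [1, 1, 0, 2, 0, 1, 0, 1, 0, 2], [1, 0, 2, 0, 2, 0, 1, 0, 1, 0, 2],
  [0, 1, 0, 2, 0, 1, 0, 1], [2, 0, 2, 0, 1, 0, 1, 1], [2, 0, 1, 1], [2, 0, 2, 0, 1, 1, 0, 2], [1, 0, 1, 0, 2, 0, 2, 0, 1, 0, 1, 0, 2],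
  [0, 1, 0, 2], [1, 1, 0, 1, 1, 0, 1, 0, 1], [1, 1, 0, 1, 0, 2, 0, 1, 0, 1, 0, 2], [1, 0, 2], [0, 2, 0, 1, 1],
  [0, 2, 0, 2, 0, 1, 0, 2, 0, 2], [1, 1, 0, 1, 0, 1, 1, 0, 1, 0, 1, 1], [0, 1, 1, 0, 2, 0, 1, 0, 2, 0, 1, 1], [0, 2, 0, 1, 1, 0, 2, 0, 2], [2, 0, 2, 0, 1, 0, 2, 0, 1, 0, 1, 1, 0, 1],
  [2, 0, 2, 0, 1, 0, 1, 1, 0, 2, 0, 1, 1], [1, 1, 0, 2, 0, 1, 0, 2, 0, 2, 0, 1], [0, 2, 0, 1, 0, 1, 1, 0, 1], [2, 0, 2, 0, 1, 0, 1, 1, 0, 1, 0, 1, 1, 0, 1], [1, 0, 1, 1, 0, 2, 0, 1, 1, 0, 2],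
  [1, 0, 1, 0, 2, 0, 2, 0, 1], [1, 0, 2, 0, 2, 0, 1, 1, 0, 1, 0, 1], [2, 0, 2, 0, 1, 0, 1, 0, 2, 0, 1, 0, 1], [0, 1, 1, 0, 1, 0, 1, 1], [0, 1, 1, 0, 2],
  [1, 0, 2, 0, 2, 0, 1], [2, 0, 1, 0, 2, 0, 2, 0, 2], [0, 2], [1, 0, 1, 0, 1, 1, 0, 2, 0, 2], [0, 1, 0, 2, 0, 1, 0, 1, 0, 2],
  [0, 2, 0, 1, 0, 2, 0, 1, 1], [0, 2, 0, 1, 0, 2, 0, 1, 0, 1, 1, 0, 1], [1, 1, 0, 1, 0, 1, 1, 0, 1], [0, 1, 1, 0, 2, 0, 1, 0, 1], [0, 2, 0, 1],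
  [1, 0, 2, 0, 1, 0, 1, 1, 0, 1], [0, 2, 0, 1, 1, 0, 1, 0, 1, 1], [2, 0, 1, 1, 0, 2, 0, 1, 0, 2, 0, 2, 0, 1], [0, 1, 0, 2, 0, 2, 0, 2], [1, 1, 0, 1, 0, 1, 1],
  [0, 2, 0, 2, 0, 1, 1, 0, 1, 0, 1], [2, 0, 2, 0, 1, 0, 2, 0, 1, 0, 1, 0, 2], [2, 0, 2, 0, 1, 1], [1, 1, 0, 1, 0, 1], [0, 1, 0, 2, 0, 1, 0, 1, 1],
  [2, 0, 2, 0, 1, 0, 1, 1, 0, 1], [1, 0, 1, 0, 1, 0, 2, 0, 1, 0, 1, 1], [1, 0, 2, 0, 1, 0, 1, 1, 0, 2, 0, 1, 1], [2, 0, 1, 0, 1, 0, 2, 0, 1, 0, 1], [0, 1, 0, 1, 0, 2, 0, 1, 0, 1, 1, 0, 1],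
  [1, 1, 0, 2, 0, 1, 0, 1, 0, 1], [1, 1, 0, 1, 1, 0, 1], [1, 1, 0, 1, 0, 1, 1, 0, 2, 0, 1, 1], [0, 2, 0, 2, 0, 1, 0, 2, 0, 1, 1], [0, 2, 0, 2, 0, 1, 0, 1, 1, 0, 2, 0, 1, 1],
  [2, 0, 1, 0, 1, 1, 0, 1, 0, 1, 1], [0, 1, 0, 1, 0, 2], [0, 2, 0, 1, 0, 1, 1, 0, 2, 0, 1, 1], [1, 1, 0, 2, 0, 2, 0, 1, 0, 2, 0, 1, 1], [1, 0, 1, 0, 1, 0, 2, 0, 1, 0, 1, 1, 0, 1],
  [2, 0, 1, 0, 1, 1, 0, 1, 0, 2, 0, 1, 0, 1], [2, 0, 1, 1, 0, 1, 0, 1], [2, 0, 1, 0, 1, 0, 2, 0, 1, 0, 1, 0, 2], [0, 1, 0, 2, 0, 2, 0, 1, 0, 2, 0, 2, 0, 1], [1, 1, 0, 2],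
  [1, 0, 1, 0, 1, 1, 0, 1, 0, 1], [1, 0, 2, 0, 1, 0, 2, 0, 2], [0, 1, 1, 0, 1, 0, 1, 1, 0, 1], [1, 1, 0, 1, 0, 1, 1, 0, 2, 0, 2], [2, 0, 1, 0, 1, 1, 0, 1],
  [0, 1, 1, 0, 1, 0, 2, 0, 1, 0, 1, 1], [2, 0, 1, 0, 2, 0, 2, 0, 1, 0, 2, 0, 2], [0, 1, 1, 0, 2, 0, 1, 0, 1, 0, 2, 0, 2, 0, 1], [1, 1, 0, 1, 0, 2, 0, 1, 0, 1, 1], [1, 1],
  [0, 2, 0, 1, 1, 0, 1, 0, 2, 0, 1, 0, 1, 1], [2, 0, 1, 1, 0, 1, 0, 2, 0, 2], [1, 0, 1, 1, 0, 1, 0, 1, 1, 0, 1], [1, 1, 0, 2, 0, 1, 0, 2, 0, 2], [0, 2, 0, 2, 0, 2, 0, 1, 0, 2, 0, 2],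
  [0, 2, 0, 1, 0, 1, 0, 2, 0, 2, 0, 2], [0, 1, 1, 0, 2, 0, 2], [1, 0, 2, 0, 1, 0, 1, 0, 2, 0, 2, 0, 1], [0, 1, 1, 0, 2, 0, 2, 0, 1], [1, 0, 1, 0, 2, 0, 2, 0, 1, 0, 2, 0, 2],
  [2, 0, 2, 0, 2], [2, 0, 2, 0, 1, 0, 1], [0, 1, 1, 0, 1], [1, 0, 1, 0, 2, 0, 1, 0, 1, 0, 2], [0, 1, 1, 0, 1, 0, 1, 1, 0, 1, 0, 1, 1],
  [1, 0, 1, 0, 2, 0, 1, 0, 1, 1, 0, 1], [1, 1, 0, 2, 0, 2, 0, 1], [0, 1, 0, 1, 1, 0, 2, 0, 1, 1, 0, 2], [0, 1, 0, 1, 0, 1, 1, 0, 1], [0, 1, 0, 2, 0, 1, 0, 2, 0, 2, 0, 1],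
  [0, 1, 1, 0, 2, 0, 1, 1], [2, 0, 1, 0, 2, 0, 1, 0, 1], [1, 0, 2, 0, 1, 0, 2, 0, 1, 1], [1, 0, 2, 0, 2, 0, 2], [2, 0, 2],
  [1, 0, 1, 1, 0, 1, 0, 2, 0, 1, 0, 1, 0, 2], [1, 0, 2, 0, 2, 0, 1, 0, 2, 0, 2, 0, 1], [1, 0, 1, 1, 0, 2, 0, 1, 0, 2, 0, 2], [2, 0, 1, 0, 2, 0, 1, 1], [1, 1, 0, 1, 1, 0, 2],
  [2, 0, 2, 0, 1, 1, 0, 1, 0, 1], [0, 2, 0, 2, 0, 1, 0, 2, 0, 1, 0, 1, 1, 0, 1], [0, 1, 0, 1, 0, 2, 0, 1, 0, 1, 0, 2], [0, 1, 1, 0, 2, 0, 2, 0, 1, 0, 1, 0, 2], [2, 0, 1, 0, 1, 0, 2, 0, 2, 0, 1],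
  [1, 0, 2, 0, 1, 0, 1, 1], [0, 2, 0, 1, 0, 1, 0, 2], [0, 2, 0, 1, 1, 0, 2, 0, 1, 1], [], [1, 0, 1, 1, 0, 1, 0, 1],
  [0, 2, 0, 2, 0, 1, 1], [2, 0, 2, 0, 1, 0, 2, 0, 2], [1, 0, 1, 0, 1, 1, 0, 1], [0, 1, 0, 2, 0, 2, 0, 1, 0, 2, 0, 1, 1], [2, 0, 1, 0, 1, 1, 0, 1, 0, 1, 1, 0, 1],
  [2, 0, 1, 0, 2, 0, 1, 1, 0, 1, 0, 1], [0, 2, 0, 2, 0, 1, 0, 1, 1, 0, 1], [1, 0, 1, 0, 1, 0, 2], [2, 0, 1, 1, 0, 1], [0, 1, 1],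
  [1, 0, 1, 1, 0, 1, 0, 1, 0, 2, 0, 2, 0, 1], [1, 1, 0, 2, 0, 1, 0, 1, 0, 2, 0, 2, 0, 1], [2, 0, 1, 1, 0, 2], [0, 1, 0, 1], [0, 1, 0, 1, 0, 1, 1, 0, 1, 0, 1],
  [0, 2, 0, 1, 0, 1, 0, 2, 0, 2, 0, 1], [0, 1, 0, 2, 0, 2, 0, 1], [1, 0, 2, 0, 2, 0, 1, 0, 2, 0, 2], [1, 0, 1, 0, 2, 0, 2], [1, 1, 0, 2, 0, 2],
  [0, 1, 0, 1, 0, 2, 0, 1, 0, 2, 0, 2, 0, 1], [1, 1, 0, 1, 0, 2, 0, 1, 0, 1], [0, 1, 0, 1, 1, 0, 1, 0, 2, 0, 1, 0, 1], [2, 0, 1, 0, 1, 0, 2, 0, 1, 0, 2, 0, 2, 0, 1], [0, 1, 0, 1, 1],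
  [1, 0, 1, 1, 0, 2, 0, 2], [2, 0, 1, 0, 2, 0, 1, 0, 1, 1], [1, 0, 1, 0, 1, 0, 2, 0, 2, 0, 1], [0, 2, 0, 1, 0, 1, 1], [0, 1, 0, 2, 0, 2, 0, 1, 0, 1, 0, 1],
  [0, 1, 1, 0, 1, 0, 2, 0, 1, 0, 1, 0, 2], [0, 1, 0, 2, 0, 1, 1, 0, 1, 0, 1], [1, 0, 1, 0, 2, 0, 2, 0, 1, 0, 1, 0, 1], [1, 0, 1], [1, 1, 0, 1, 1, 0, 2, 0, 1, 1],
  [1, 0, 2, 0, 1, 1, 0, 2], [1], [0, 1, 0, 1, 0, 2, 0, 1, 0, 1, 1], [1, 0, 2, 0, 1, 0, 1, 0, 1], [2, 0, 2, 0, 2, 0, 1, 0, 2, 0, 2],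
  [1, 0, 2, 0, 2], [0, 2, 0, 1, 1, 0, 1, 0, 1], [2, 0, 2, 0, 1, 0, 1, 0, 1], [2, 0, 2, 0, 2, 0, 1, 0, 1, 0, 1], [0, 2, 0, 2, 0, 1],
  [0, 1, 0, 1, 1, 0, 1], [1, 0, 1, 1, 0, 1], [0, 1, 0, 1, 1, 0, 1, 0, 1, 1], [2, 0, 1, 0, 1, 1], [2, 0, 1, 1, 0, 1, 0, 1, 0, 2, 0, 2, 0, 1],
  [2, 0, 1, 0, 1], [2, 0, 1, 1, 0, 2, 0, 1, 1], [0, 1, 0, 1, 1, 0, 2, 0, 1, 1], [2, 0, 2, 0, 1, 0, 1, 0, 2, 0, 2, 0, 2], [1, 0, 2, 0, 1, 0, 1, 0, 2, 0, 1, 0, 1],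
  [0, 1, 0, 2, 0, 2, 0, 1, 0, 2, 0, 2], [0, 2, 0, 2, 0, 1, 0, 1, 0, 2, 0, 1, 0, 1], [0, 1, 0, 1, 0, 2, 0, 1, 0, 1], [2, 0, 1, 0, 1, 0, 2], [1, 1, 0, 2, 0, 1, 0, 1, 1],
  [0, 1, 1, 0, 2, 0, 1, 0, 2, 0, 2, 0, 1], [2, 0, 1, 0, 1, 0, 1], [1, 0, 1, 0, 1, 1, 0, 1, 0, 1, 1], [1, 0, 1, 0, 2], [1, 0, 1, 0, 2, 0, 1, 1],
  [1, 0, 2, 0, 1, 1, 0, 2, 0, 2], [1, 1, 0, 1, 0, 2, 0, 2], [1, 1, 0, 2, 0, 2, 0, 1, 0, 1, 0, 2], [1, 1, 0, 2, 0, 1, 0, 1], [1, 1, 0, 2, 0, 1, 0, 2, 0, 1, 1],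
  [0, 1, 0, 2, 0, 1, 0, 1, 0, 2, 0, 1, 0, 1], [1, 0, 1, 1, 0, 2, 0, 1, 1], [1, 1, 0, 1, 0, 2, 0, 1, 0, 1, 1, 0, 1], [0, 2, 0, 2, 0, 2, 0, 1], [1, 0, 2, 0, 2, 0, 1, 1, 0, 2],
  [0, 1, 0, 2, 0, 1, 0, 1, 1, 0, 1, 0, 2, 0, 1, 0, 1], [1, 0, 1, 0, 1, 0, 2, 0, 1, 0, 1], [0, 2, 0, 1, 0, 2, 0, 2], [2, 0, 1, 0, 1, 0, 2, 0, 2, 0, 2], [2, 0, 1, 1, 0, 1, 0, 2, 0, 1, 0, 1, 1],
  [2, 0, 2, 0, 1, 1, 0, 1, 0, 1, 1], [1, 1, 0, 2, 0, 1, 0, 1, 0, 2, 0, 1, 0, 1], [2, 0, 1, 0, 1, 1, 0, 2, 0, 1, 1], [0, 2, 0, 2, 0, 1, 0, 1, 0, 1], [0, 2, 0, 1, 0, 1],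
  [2, 0, 2, 0, 1, 0, 2, 0, 2, 0, 1], [0, 1], [1, 0, 2, 0, 1, 0, 2, 0, 2, 0, 1], [1, 1, 0, 1, 0, 1, 0, 2, 0, 2, 0, 1], [0, 1, 0, 1, 0, 2, 0, 2, 0, 1],
  [2, 0, 1, 0, 2, 0, 2], [1, 0, 2, 0, 2, 0, 1, 0, 2, 0, 1, 0, 1, 0, 2], [0, 2, 0, 1, 0, 2, 0, 1, 0, 1, 0, 2], [1, 1, 0, 1, 0, 2, 0, 1, 1], [2, 0, 1, 1, 0, 2, 0, 2],
  [0, 1, 0, 1, 1, 0, 2, 0, 2], [0, 1, 1, 0, 2, 0, 1, 0, 2, 0, 2], [0, 1, 0, 2, 0, 1, 1], [0, 2, 0, 1, 0, 2, 0, 1, 1, 0, 1, 0, 1], [1, 0, 2, 0, 1, 1, 0, 1, 0, 1, 1],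
  [2, 0, 2, 0, 2, 0, 1], [2, 0, 1], [0, 1, 1, 0, 1, 0, 1, 0, 2, 0, 2, 0, 1], [0, 2, 0, 1, 0, 2, 0, 2, 0, 1, 0, 2, 0, 2], [2, 0, 1, 0, 1, 0, 1, 1, 0, 1],
  [1, 0, 1, 0, 2, 0, 2, 0, 2], [1, 0, 1, 0, 1, 1, 0, 1, 0, 1, 1, 0, 1], [1, 1, 0, 1, 0, 1, 0, 2], [0, 2, 0, 1, 0, 2, 0, 1, 0, 1, 1], [1, 0, 2, 0, 2, 0, 1, 0, 1, 0, 2, 0, 1, 0, 1],
  [2, 0, 2, 0, 1], [1, 0, 2, 0, 1, 1, 0, 1, 0, 1], [0, 2, 0, 1, 0, 1, 0, 1], [0, 2, 0, 1, 0, 1, 0, 2, 0, 1, 0, 1, 0, 2], [0, 1, 0, 2, 0, 1, 1, 0, 2, 0, 2],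
  [0, 2, 0, 1, 1, 0, 2], [0, 2, 0, 2], [2, 0, 2, 0, 2, 0, 1, 0, 2, 0, 1, 1], [1, 0, 1, 0, 1, 1, 0, 2, 0, 1, 1], [2, 0, 1, 1, 0, 2, 0, 2, 0, 1, 0, 1, 0, 2],
  [1, 1, 0, 1, 1, 0, 1, 0, 1, 1], [0, 1, 0, 2, 0, 2], [2, 0, 1, 0, 1, 0, 2, 0, 2, 0, 1, 0, 1, 0, 2], [2, 0, 1, 0, 2, 0, 1, 0, 1, 0, 2], [0, 1, 1, 0, 1, 1],
  [0, 1, 0, 2, 0, 2, 0, 1, 0, 1, 0, 2], [1, 1, 0, 1, 0, 2, 0, 2, 0, 1, 0, 2, 0, 2], [0, 1, 0, 1, 1, 0, 1, 0, 1, 1, 0, 1], [0, 1, 0, 1, 0, 1, 1, 0, 2, 0, 2], [0, 1, 0, 2, 0, 1, 0, 1, 1, 0, 1],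
  [0, 1, 1, 0, 1, 0, 1], [1, 0, 2, 0, 1, 0, 1, 1, 0, 1, 0, 2, 0, 1, 0, 1], [1, 1, 0, 1, 0, 1, 0, 2, 0, 1, 0, 1], [1, 1, 0, 1, 0, 2, 0, 2, 0, 2], [0, 2, 0, 2, 0, 1, 0, 2, 0, 1, 0, 1, 0, 2],
  [1, 0, 1, 0, 1, 0, 2, 0, 2, 0, 2], [1, 0, 1, 0, 2, 0, 1, 0, 1], [0, 2, 0, 2, 0, 2], [1, 0, 1, 0, 1, 1], [0, 2, 0, 1, 0, 2, 0, 2, 0, 1],
  [2, 0, 2, 0, 1, 0, 1, 0, 2, 0, 2, 0, 1], [1, 0, 2, 0, 1, 0, 2, 0, 1, 0, 1], [1, 0, 1, 0, 2, 0, 1, 0, 1, 1], [1, 1, 0, 1, 0, 2, 0, 2, 0, 1], [0, 1, 0, 2, 0, 1, 1, 0, 1, 0, 1, 1],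
  [0, 1, 0, 1, 0, 2, 0, 2, 0, 2], [1, 0, 2, 0, 2, 0, 1, 0, 1, 0, 1], [1, 0, 2, 0, 1, 0, 1, 0, 2], [0, 2, 0, 1, 0, 1, 0, 2, 0, 1, 0, 1, 1], [0, 1, 1, 0, 1, 0, 1, 0, 2, 0, 1, 0, 1],
  [1, 0, 2, 0, 2, 0, 1, 0, 2, 0, 1, 1], [2], [1, 1, 0, 2, 0, 1, 1, 0, 1, 0, 1], [0, 2, 0, 2, 0, 1, 0, 2, 0, 2, 0, 1], [0, 1, 0, 2, 0, 1, 1, 0, 2],
  [2, 0, 1, 1, 0, 1, 0, 1, 1], [0, 1, 1, 0, 1, 0, 2, 0, 2], [2, 0, 2, 0, 2, 0, 1, 0, 1, 0, 2], [0, 1, 0, 1, 1, 0, 1, 0, 1], [0, 2, 0, 2, 0, 1, 0, 1, 0, 2, 0, 2, 0, 1],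
  [1, 0, 2, 0, 1, 1, 0, 2, 0, 1, 1], [2, 0, 1, 0, 2, 0, 1, 0, 1, 1, 0, 1], [1, 0, 2, 0, 2, 0, 1, 0, 1, 0, 2, 0, 2, 0, 1], [2, 0, 2, 0, 1, 0, 2, 0, 1, 1], [1, 0, 1, 0, 1],
  [1, 1, 0, 2, 0, 1, 1, 0, 1, 0, 1, 1], [0, 2, 0, 1, 0, 2, 0, 1, 0, 1], [0, 1, 0, 1, 0, 1], [1, 1, 0, 2, 0, 1, 1, 0, 2], [0, 2, 0, 2, 0, 1, 0, 1, 0, 2],
  [0, 1, 1, 0, 1, 0, 2, 0, 1, 0, 1], [1, 0, 1, 1, 0, 1, 0, 1, 1], [0, 1, 1, 0, 2, 0, 1, 1, 0, 2], [1, 0, 1, 0, 2, 0, 1, 0, 2, 0, 2, 0, 1], [2, 0, 1, 0, 2, 0, 2, 0, 1],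
  [1, 1, 0, 2, 0, 1, 1], [1, 0, 1, 1, 0, 1, 0, 2, 0, 1, 0, 1, 1], [1, 1, 0, 1, 1], [0, 1, 0, 1, 0, 2, 0, 2, 0, 1, 0, 1, 0, 2], [2, 0, 1, 0, 1, 1, 0, 2, 0, 2]]

noncomputable def KT : ℕ := nat_lit 0x9d88491690010f4e006a57442359d88013523eac6c87d663c8400cbc2c419693e882587d5a3c96209bc10c6b5200086220000d74864891241b73947aae58c355bb082dbcd8e07d7d6f236227446ca1ac3ec43487d393a35b4ede6b4551a3ecea5db77d61906c88f20ba556dbb580490f80910ec8126a68c0235b5ad013634fac74e9f666f9680ca7330195b4f882229f5a5519809a73506af109086581200dbda84881105b7bd61aae128f55eed20db713587d4b3a2375cde46ec4703e8b2347d3e6f359e8746b6c5a43e94aadb7964790712c320eed2edb9788491270010f2e006a6c442359788012eb3eac7327d666ec400c85ac419273e881c87d5a6ed62098590c6aeb000870e0000ec4864894a41b75247aadc8c355d5082db8b0e07d696f2370e7446dbdac3e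713487d523a35b2ede6b68d1a3e8125db76961907328f20ef956dbbc00491960910f32126a4a00235bc2d0133e4fac72e9f663b1680c9db30194b4f8830e9f5a3a598099db506bbd09085c81200c55a848c4105b76361aae1e8f55b8120dbceb587cf83a23632de46dfc703e912347cf16f35b18746b5fda43ecdaadb75b4790638c320b812edb9da5d1f6948a434e9120d752ec39db49bd52688e2c8d16b3c9a474bc0e0e96968b4a58d146bc870debc241875248a5e229155d75208f9135001391a886584810bb08600cdb30fb7d060822209104a1627dc42d0fb3904ac74e0c58c54407dce804017d2410ec83521ba44200b5aad1ef86da42c8db20e8d56c3b5a35bd631f0e34e3e6b6f91a74a7358e95b1f34a223e46d51acdea710586f16da5e58db55dbc828f8110c01bd24086123510eeda800712c4fb4b048835c0c106c5987d8b080fb3e062c5e80958ec5687d9488401961a90f124821eec020097a5d1f2748a432e9120ec52ec397b49bceb688e332d16b6eda474858e0e92768b49c8d146eec70de85a4186eb48a5f0e9155ec5208f94b5001521a885c84810d5086008b330fb69060830e09105bd627d712d0fb5204ac72e0c58e8c407d8100401692410f323521ef84200bc2ad1f966da4332db20ca156c3bc235bd3e1f0e32e3e6b3b11a749db58e94b1f34b0e3e46ba5acde9d90587bd6da5dc8db55c54828fc410c0163240861e3510b81a800ceac4faf804882320c105fd987d91080faf1062c7180958dfd687dcd884015b1a90e384821b800200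

noncomputable def kt (x : C) : ℕ := dig 27 0x7ffffff KT x.v

/-- the word of a code -/
noncomputable def wd (x : C) : List ℕ :=
  List.rec (motive := fun _ => List ℕ) [] (fun k _ ih =>
    Comp.ite' (Nat.beq (Nat.land (Nat.shiftRight x.v k) 1) 0) ih (appendL (nth [] BW k) ih))
    [2, 3, 0, 1, 4, 5, 6, 7]

noncomputable def ky (w : List ℕ) : ℕ := apW (apK XM.T 7) w (pack 0 1 224)

noncomputable def eqm (κ κ' : ℕ) : Bool :=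
  Comp.force κ fun κ => Comp.force κ' fun κ' =>
    anyL [[], [3, 3], [5, 5], [3, 3, 5, 5]] fun w => Nat.beq (apW (apK XM.T 7) w κ) κ'

noncomputable def cjW (w b : List ℕ) : List ℕ := appendL w (appendL b (invW PX.I w))

theorem ev_cjW (w b : List ℕ) : ev xX (cjW w b) = ev xX w * ev xX b * (ev xX w)⁻¹ := by
  rw [cjW, appendL_eq, appendL_eq, ev_append, ev_append, ev_invW link_X.sat.inv, mul_assoc]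

theorem kt_chk : ∀ x, kt x = ky (wd x) := by decide +kernel

theorem mul_chk : ∀ x, ∀ k < 8,
    eqm (apW (apK XM.T 7) (wd (c (2 ^ k))) (kt x)) (kt (c (2 ^ k) * x)) = true := by decide +kernel

theorem ne_chk : ∀ x, eqm (kt x) (kt 1) = true → x = 1 := by decide +kernel

theorem sig_chk : ∀ j < 12, (∀ k < 8, eqm (ky (cjW (nth [] LW j) (subst (nth [] AW j) (wd (c (2 ^ k))))))
    (kt (T j (c (2 ^ k)))) = true) ∧ (T j 1 = 1 ∧ ∀ x, T j x = T j (c (2 ^ lo x)) * T j (rs x)) ∧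
    ∀ x, T 12 (T j x) = T (12 + j) x ∧ T 12 (T 12 (T j x)) = T (24 + j) x := by decide +kernel

theorem cw_chk : incr (fun i => ky (cjW (cjW (nth [] CW i) [0]) [0, 1])) 315 0x8000000 = true := by
  decide +kernel

variable {G : Type*} [Group G]

theorem exists_psi {φ : X →* G} (hk : ∀ g, φ g = 1 ↔ ∃ w ∈ [[], [3, 3], [5, 5], [3, 3, 5, 5]], ev xX w * g = 1) :
    ∃ ψ : C →* G, Function.Injective ψ ∧ (∀ x, ψ x = φ (ev xX (wd x))) ∧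
      ∀ w x, eqm (ky w) (kt x) = true → φ (ev xX w) = ψ x := by
  obtain ⟨pk, hE⟩ := ev_X
  have h0 : ∀ w ∈ [[], [3, 3], [5, 5], [3, 3, 5, 5]], φ (ev xX w) = 1 := fun w hw => by
    rw [← inv_eq_one, ← map_inv, hk]; exact ⟨w, hw, mul_inv_cancel _⟩
  have h1 : ∀ {g g'}, eqm (pk g) (pk g') = true → φ g = φ g' := fun {g g'} e => by
    simp only [eqm, Comp.force_eq, anyL_iff, beq_iff, hE.apW] at e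
    obtain ⟨w, hw, e⟩ := e
    rw [← hE.inj e, map_mul, h0 w hw, one_mul]
  have h2 : ∀ x, kt x = pk (ev xX (wd x)) := fun x => (kt_chk x).trans (hE.key _)
  have h3 : ∀ x, ∀ k < 8, φ (ev xX (wd (c (2 ^ k) * x))) = φ (ev xX (wd (c (2 ^ k)))) * φ (ev xX (wd x)) :=
    fun x k hk => by
      have := mul_chk x k hk
      rw [h2, h2, hE.apW] at this
      rw [← h1 this, map_mul]
  refine ⟨MonoidHom.mk' (fun x => φ (ev xX (wd x))) (induct (fun y => ?_) fun x hx ih y => ?_),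
    (injective_iff_map_eq_one _).2 fun x hx => ne_chk x ?_, fun _ => rfl, fun w x e => ?_⟩
  · rw [one_mul, show wd 1 = [] from rfl]; simp
  · have e : x = c (2 ^ lo x) * rs x := by rw [rs, mul_inv_cancel_left]
    have hl := ((lo_chk x).resolve_left hx).1
    rw [e, mul_assoc, h3 _ _ hl, h3 _ _ hl, ih, mul_assoc]
  · obtain ⟨w, hw, e⟩ := (hk _).1 hx
    simp only [eqm, Comp.force_eq, anyL_iff, beq_iff, h2, hE.apW]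
    exact ⟨w, hw, congrArg pk e⟩
  · rw [h2, ky, hE.key] at e
    exact h1 e

theorem index_ge {L : Type*} [Group L] [Finite L] {τ : X →* L} (hτ : Tau τ) :
    315 ≤ (centralizer {τ (xX 0)}).index := by
  obtain ⟨pk, hE⟩ := ev_X
  have h1 : conjugatesOf (τ (xX 0)) = MulAction.orbit (ConjAct L) (τ (xX 0)) := by
    ext g; rw [ConjAct.mem_orbit_conjAct]; exact isConj_comm
  rw [Subgroup.centralizer_eq_comap_stabilizer]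
  refine le_of_le_of_eq ?_ (index_comap_of_surjective (f := (ConjAct.toConjAct (G := L)).toMonoidHom) _
    ConjAct.toConjAct.surjective).symm
  rw [MulAction.index_stabilizer, ← h1]
  simpa using Set.ncard_le_ncard_of_injOn (s := Set.Iio 315) (t := conjugatesOf (τ (xX 0)))
    (fun i => τ (ev xX (cjW (nth [] CW i) [0]))) (fun i _ => isConj_iff.2 ⟨τ (ev xX (nth [] CW i)), by
      simp [ev_cjW]⟩) fun i hi j hj e => (incr_spec cw_chk).2 i hi j hj (by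
      simp only [ky, hE.key, ev_cjW (cjW _ _)]
      beta_reduce at e
      generalize ev xX (cjW (nth [] CW i) [0]) = a at e ⊢
      generalize ev xX (cjW (nth [] CW j) [0]) = b at e ⊢
      have := hτ.stem.2.1 (show a⁻¹ * b ∈ τ.ker by
        rw [MonoidHom.mem_ker, map_mul, map_inv, show τ a = τ b from e, inv_mul_cancel])
      rw [← mul_inv_cancel_left a b, cj_mul, cj_of_comm (mem_center_iff.1 this _).symm])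

theorem exists_cfg [Finite G] {A : Subgroup G} (hA : IsStandardSubgroup A) {F : Type*} [Field F] [Fintype F]
    (hF : Fintype.card F = 4) (hZ : IsKleinFour (center A)) (e : A ⧸ center A ≃* L3 F) :
    ∃ ψ h n1 n2, Cfg A ψ h n1 n2 := by
  obtain ⟨σ, hσ⟩ := exists_sig
  obtain ⟨hL, τ, hτ⟩ := exists_tau hF
  have : Finite (L3 F) := Nat.finite_of_card_ne_zero (by rw [hL]; norm_num)
  let s := e.toMonoidHom.comp (QuotientGroup.mk' _)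
  have hs : Function.Surjective s := e.surjective.comp (QuotientGroup.mk'_surjective _)
  have hk : s.ker = center A := Subgroup.ext fun a => e.map_eq_one_iff.trans (QuotientGroup.eq_one_iff a)
  have h2 : ∀ m ∈ s.ker, m * m = 1 := fun m hm =>
    congrArg Subtype.val (IsKleinFour.mul_self (⟨m, hk ▸ hm⟩ : center A))
  obtain ⟨φ0, hφ⟩ := exists_cover hF hτ hs hk.le fun m hm => by
    rw [show 4 = 2 * 2 from rfl, pow_mul, pow_two m, h2 m hm, one_pow]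
  have h3 : Function.Surjective φ0 := FGS.surjective_of_stem
    ⟨hs, hk.le, hA.1.1.commutator_eq_top ▸ le_top⟩ fun a => (hτ.surj a).imp fun g hg => (hφ g).trans hg
  have hc : Nat.card A = 80640 := by
    rw [card_eq_card_quotient_mul_card_subgroup (center A), hZ.card_four, Nat.card_congr e.toEquiv, hL]
  have hu : φ0 (xX 3) * φ0 (xX 3) = 1 := h2 _ ((hφ _).trans ((hτ.ker _).2 ⟨1, by decide, 0, by decide, by simp [zz]⟩))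
  have hv : φ0 (xX 5) * φ0 (xX 5) = 1 := h2 _ ((hφ _).trans ((hτ.ker _).2 ⟨0, by decide, 1, by decide, by simp [zz]⟩))
  have h4 : ∀ i j, φ0 (zz i j) = φ0 (zz (i % 2) (j % 2)) := fun i j => by
    simp only [zz, map_mul, map_pow]
    rw [← pow_eq_pow_mod i ((pow_two _).trans hu), ← pow_eq_pow_mod j ((pow_two _).trans hv)]
  have h5 : ∀ a ∈ center A, ∃ i < 2, ∃ j < 2, a = φ0 (zz i j) := fun a ha => by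
    obtain ⟨g, rfl⟩ := h3 a
    obtain ⟨i, -, j, -, rfl⟩ := (hτ.ker g).1 ((hφ g).symm.trans (hk.ge ha))
    exact ⟨_, Nat.mod_lt i two_pos, _, Nat.mod_lt j two_pos, h4 i j⟩
  have h6 : Function.Bijective fun p : Fin 2 × Fin 2 =>
      (⟨φ0 (zz p.1 p.2), hk.le ((hφ _).trans ((hτ.ker _).2 ⟨_, by omega, _, by omega, rfl⟩))⟩ : center A) :=
    (Nat.bijective_iff_surjective_and_card _).2 ⟨fun a => by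
      obtain ⟨i, hi, j, hj, e⟩ := h5 a a.2
      exact ⟨(⟨i, hi⟩, ⟨j, hj⟩), Subtype.ext e.symm⟩, by simp⟩
  obtain ⟨ψ0, hi, hw, hq⟩ := exists_psi (φ := φ0) fun g => ⟨fun hg => by
    obtain ⟨i, hi, j, hj, rfl⟩ := (hτ.ker g).1 (by rw [← hφ, hg, map_one])
    have := @h6.1 (⟨i % 2, by omega⟩, ⟨j % 2, by omega⟩) (0, 0) (Subtype.ext ((h4 i j).symm.trans
      (hg.trans (by simp [zz]))))
    simp only [Prod.mk.injEq, Fin.ext_iff, Fin.val_zero] at this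
    have e1 := u4
    have e2 := v4
    have e3 := zz_four 1 1
    have e4 : Commute (xX 3) (xX 5) := mem_center_iff.1 v_cent _
    obtain rfl | rfl : i = 0 ∨ i = 2 := by omega
    all_goals obtain rfl | rfl : j = 0 ∨ j = 2 := by omega
    · exact ⟨[], by simp, by simp [zz]⟩
    · exact ⟨[5, 5], by simp, by simpa [zz, pow_succ, mul_assoc] using e2⟩
    · exact ⟨[3, 3], by simp, by simpa [zz, pow_succ, mul_assoc] using e1⟩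
    · refine ⟨[3, 3, 5, 5], by simp, ?_⟩
      rw [show ev xX [3, 3, 5, 5] = zz 2 2 by simp [zz, pow_succ, mul_assoc], zz,
        (e4.pow_pow 2 2).symm.mul_mul_mul_comm, ← pow_add, ← pow_add, e1, e2, one_mul], by
    rintro ⟨w, hw, e⟩
    rw [eq_inv_of_mul_eq_one_right e, map_inv, inv_eq_one]
    simp only [List.mem_cons, List.not_mem_nil, or_false] at hw
    rcases hw with rfl | rfl | rfl | rfl <;> simp [hu, hv, ← mul_assoc]⟩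
  let ψ := A.subtype.comp ψ0
  let φ := A.subtype.comp φ0
  have hq' : ∀ w b y, eqm (ky (cjW w (wd b))) (kt y) = true →
      φ (ev xX w) * ψ b * (φ (ev xX w))⁻¹ = ψ y := fun w b y e => by
    have := congrArg Subtype.val (hq _ _ e)
    rwa [ev_cjW, map_mul, map_mul, map_inv, ← hw] at this
  have hz : ∀ x, R x ↔ ψ0 x ∈ center A := fun x => by
    have e : ∀ i < 2, ∀ j < 2, ∃ y, R y ∧ eqm (ky (zw i j)) (kt y) = true := by decide +kernel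
    have e' : ∀ y, R y → ∃ i < 2, ∃ j < 2, eqm (ky (zw i j)) (kt y) = true := by decide +kernel
    refine ⟨fun hx => ?_, fun hx => ?_⟩
    · obtain ⟨i, hi, j, hj, e⟩ := e' x hx
      rw [← hq _ _ e, ev_zw]
      exact hk.le ((hφ _).trans ((hτ.ker _).2 ⟨_, by omega, _, by omega, rfl⟩))
    · obtain ⟨i, hi', j, hj, e1⟩ := h5 _ hx
      obtain ⟨y, hy, e2⟩ := e i hi' j hj
      rwa [hi (e1.trans ((ev_zw i j ▸ hq _ _ e2)))]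
  have hcen : ∀ x, R x → ψ x ∈ centralizer (A : Set G) := fun x hx a ha =>
    congrArg Subtype.val (mem_center_iff.1 ((hz x).1 hx) ⟨a, ha⟩)
  have hh : Act ψ (φ (ev xX [5, 1, 1, 0, 1, 0, 2, 0, 1, 0, 1, 1, 0, 1])) (T 12) :=
    Act.of_basis (fun k hk => hq' _ _ _ (by revert k; decide +kernel)) (by decide +kernel)
  have fa : ∀ a ∈ A, ∀ y, R y → a * ψ (c 32) * a⁻¹ = ψ (c 32 * y) → a ∈ ψ.range := fun a ha y hy e => by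
    have e0 : s (ψ0 (c 32)) = τ (xX 0) := by rw [hw, hφ, show wd (c 32) = [0] from rfl]; simp
    have e1 : ψ0.range ≤ (centralizer {τ (xX 0)}).comap s := by
      rintro _ ⟨x, rfl⟩
      exact mem_centralizer_singleton_iff.2 (e0 ▸ ((Cfg.comW (ψ := ψ0) (by decide) x).map s).symm.eq)
    have e2 := ((centralizer {τ (xX 0)}).comap s).card_mul_index
    rw [index_comap_of_surjective _ hs, hc] at e2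
    have e3 := index_ge hτ
    have e4 := eq_of_le_of_card_ge e1 (by
      rw [← Nat.card_congr (MonoidHom.ofInjective hi).toEquiv, card_C]; nlinarith)
    have e5 : (⟨a, ha⟩ : A) * ψ0 (c 32) * (⟨a, ha⟩ : A)⁻¹ = ψ0 (c 32 * y) := Subtype.ext e
    obtain ⟨u, hu⟩ := e4.ge (show (⟨a, ha⟩ : A) ∈ _ from mem_centralizer_singleton_iff.2 (by
      have := congrArg s e5
      rw [map_mul ψ0, map_mul s (ψ0 _), show s (ψ0 y) = 1 from hk.ge ((hz y).1 hy), mul_one, map_mul, map_mul,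
        map_inv, e0] at this
      exact (comm_of_cj this).eq))
    exact ⟨u, congrArg Subtype.val hu⟩
  refine ⟨ψ, _, φ (ev xX [1, 0, 2, 0, 2, 0, 1, 1, 0, 2, 0, 2, 0, 1, 1]), φ (ev xX [1, 1, 0, 1, 0, 2, 0, 1, 1]),
    A.subtype_injective.comp hi, fun x => (ψ0 x).2, hcen, fun a ha h => ?_, (φ0 _).2, ?_, hh, (φ0 _).2,
    ActV.of_basis (fun k hk hv => hq' _ _ _ (by revert k; decide +kernel)) (by decide +kernel), (φ0 _).2,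
    ActV.of_basis (fun k hk hv => hq' _ _ _ (by revert k; decide +kernel)) (by decide +kernel), fa,
    fun m hm hU => ?_, hc, fun t ht h1 h2 g hg => ?_⟩
  · obtain ⟨i, hi, j, hj, e1⟩ := h5 ⟨a, ha⟩ (mem_center_iff.2 fun b => Subtype.ext (h b b.2))
    have e : ∀ i < 2, ∀ j < 2, ∃ y, R y ∧ eqm (ky (zw i j)) (kt y) = true := by decide +kernel
    obtain ⟨y, hy, e2⟩ := e i hi j hj
    exact ⟨y, hy, congrArg Subtype.val (e1.trans ((ev_zw i j ▸ hq _ _ e2)))⟩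
  · change φ _ ^ 3 = 1
    rw [← map_pow, ← Comp.BN.ev_powW]
    exact (congrArg Subtype.val (hq _ 1 (by decide +kernel))).trans (map_one ψ)
  · let β : MulAut A := A.normalizerMonoidHom ⟨m, hm⟩
    let f := s.liftOfRightInverse _ (Function.rightInverse_surjInv hs) ⟨s.comp β.toMonoidHom, fun g hg =>
      hk.ge (characteristic_iff_le_comap.1 inferInstance β (hk.le hg))⟩
    have hf : ∀ g, f (s g) = s (β g) := fun g => s.liftOfRightInverse_comp_apply _ _ _ g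
    obtain ⟨j, hj, l, hl⟩ := hσ.all hτ hF (MulEquiv.ofBijective f (Finite.surjective_iff_bijective.1
      fun a => (hs a).elim fun g hg => ⟨s (β.symm g), by rw [hf, β.apply_symm_apply, hg]⟩))
    have h7 : ∀ g, m * φ g * m⁻¹ = φ (l * σ j g * l⁻¹) := fun g => congrArg Subtype.val
      (lift_eq hk.le (f := β.toMonoidHom.comp φ0)
        (g := φ0.comp ((MulAut.conj l).toMonoidHom.comp (σ j))) (fun a =>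
        (hf _).symm.trans ((congrArg f (hφ a)).trans ((hl a).trans (hφ _).symm))) g)
    obtain ⟨a, ha, h8⟩ : ∃ a ∈ A, ∀ g, a⁻¹ * m * φ g * (a⁻¹ * m)⁻¹ =
        φ (ev xX (nth [] LW j) * σ j g * (ev xX (nth [] LW j))⁻¹) :=
      ⟨φ (l * (ev xX (nth [] LW j))⁻¹), (φ0 _).2, fun g => by rw [cj_mul, h7]; simp [mul_assoc]⟩
    have h9 : Act ψ (a⁻¹ * m) (T j) := Act.of_basis (fun k hk => by
      have := congrArg Subtype.val (hq _ _ ((sig_chk j hj).1 k hk))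
      rw [ev_cjW, ev_subst, ← funext (hσ.map j hj), ← map_ev] at this
      exact (congrArg (fun u : A => a⁻¹ * m * u * (a⁻¹ * m)⁻¹) (hw _)).trans ((h8 _).trans this))
      (sig_chk j hj).2.1
    have h10 : a ∈ normalizer (ψ.range : Set G) := by simpa using mul_mem hU (inv_mem h9.norm)
    obtain ⟨w, h11⟩ := Cfg.cjU (inv_mem h10) (c 32)
    have h12 : W w := W_of w fun k _ => hi (Subtype.ext (by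
      obtain ⟨y, hy⟩ := Cfg.cjU h10 (c (2 ^ k))
      have := comm_cj' (hy ▸ Cfg.comW (ψ := ψ) (x := c 32) (by decide) y).symm
      rw [inv_inv] at h11
      rw [map_mul, map_mul]
      exact (h11 ▸ this).symm.eq))
    have h13 : ¬ R w := fun hw => absurd ((hz (c 32)).2 (mem_center_iff.2 fun b => Subtype.ext (by
      have := Cfg.cjK (Cfg.AM ha) (h11 ▸ hcen w hw)
      rw [show a * (a⁻¹ * ψ (c 32) * a⁻¹⁻¹) * a⁻¹ = ψ (c 32) by group] at this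
      exact this b b.2))) (by decide)
    have key : ∀ {b : G} {ρ : C → C} {i : ℕ}, b ∈ A → Act ψ b ρ → R ((c 32)⁻¹ * ρ w) → i < 36 →
        (∀ x, ρ (T j x) = T i x) → (i = 0 → j = 0 ∧ b = 1) → ∃ u, ∃ j < 36, Act ψ ((ψ u)⁻¹ * m) (T j) ∧
          (j = 0 → (ψ u)⁻¹ * m ∈ centralizer (A : Set G)) := fun {b ρ i} b1 b2 b3 b4 b5 b6 => by
      obtain ⟨u, hu⟩ := fa _ (mul_mem b1 (inv_mem ha)) _ b3 (by rw [cj_mul, h11, b2, mul_inv_cancel_left])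
      have e : (ψ u⁻¹)⁻¹ * m = b * (a⁻¹ * m) := by rw [map_inv, inv_inv, hu, mul_assoc]
      refine ⟨u⁻¹, i, b4, e ▸ (b2.mul h9).congr b5, fun hi x hx => ?_⟩
      obtain ⟨rfl, rfl⟩ := b6 hi
      obtain ⟨g, hg⟩ := h3 ⟨x, hx⟩
      have := h8 g
      rw [hσ.zero, show nth [] LW 0 = [] from rfl, ev_nil, one_mul, inv_one, mul_one,
        show φ g = x from congrArg Subtype.val hg] at this
      rw [e, one_mul]; exact (comm_of_cj this).symm.eq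
    have : ∀ w, W w → ¬ R w → R ((c 32)⁻¹ * w) ∨ R ((c 32)⁻¹ * T 12 w) ∨ R ((c 32)⁻¹ * T 12 (T 12 w)) := by
      decide +kernel
    rcases this w h12 h13 with e | e | e
    exacts [key (ρ := fun x => x) (one_mem A) (fun x => by simp) e (by omega) (fun _ => rfl) fun h => ⟨h, rfl⟩,
      key (φ0 _).2 hh e (by omega) (fun x => ((sig_chk j hj).2.2 x).1) (by omega),
      key (mul_mem (φ0 _).2 (φ0 _).2) (hh.mul hh) e (by omega) (fun x => ((sig_chk j hj).2.2 x).2) (by omega)]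
  · by_contra hn
    have h3 := hA.2.1.2 g (hA.2.2.2 ▸ hn)
    have := Fact.mk Nat.prime_two
    have h4 : orderOf (g * t * g⁻¹) = 2 := orderOf_eq_prime (by rw [conj_pow, pow_two, h1]; simp)
      (by simpa using h2)
    exact (Nat.not_even_iff_odd.2 h3) (even_iff_two_dvd.2 (h4 ▸ orderOf_dvd_natCard _ ⟨hg, t, ht, rfl⟩))

end Cfsg.Agent.AS
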