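import Cfsg.Agent.AS.Cfg

/-! Commuting conjugates of the centre of the standard subgroup. -/

set_option autoImplicit false
set_option synthInstance.maxSize 20000
set_option synthInstance.maxHeartbeats 200000

namespace Cfsg.Agent.AS

open Subgroup

variable {G : Type*} [Group G] {ψ : C →* G} {A : Subgroup G} {h n1 n2 : G}

local notation "𝐊" => centralizer (A : Set G)
local notation "𝐌" => normalizer (A : Set G)
local notation "𝐍" => normalizer (MonoidHom.range ψ : Set G)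

/-- the centre commutes with its conjugate -/
def CC (ψ : C →* G) (g : G) : Prop := ∀ x, R x → ∀ y, R y → Commute (g * ψ x * g⁻¹) (ψ y)

/-- conjugates of the involutions of the centre -/
def IsA (ψ : C →* G) (t : G) : Prop := ∃ g r, R r ∧ r ≠ 1 ∧ t = g * ψ r * g⁻¹

theorem IsA.cj {t : G} (h : IsA ψ t) (g : G) : IsA ψ (g * t * g⁻¹) := by
  obtain ⟨a, r, h1, h2, rfl⟩ := h
  exact ⟨g * a, r, h1, h2, (cj_mul _ _ _).symm⟩

theorem IsA.cj' {t g : G} (h : IsA ψ (g * t * g⁻¹)) : IsA ψ t := by simpa [mul_assoc] using h.cj g⁻¹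

theorem isA_R {r : C} (h : R r) (h1 : r ≠ 1) : IsA ψ (ψ r) := ⟨1, r, h, h1, by simp⟩

theorem comR_of {a : G} (h1 : Commute a (ψ (c 64))) (h2 : Commute a (ψ (c 128))) (y : C) (hy : R y) :
    Commute a (ψ y) := by
  have : ∀ y, R y → y = 1 ∨ y = c 64 ∨ y = c 128 ∨ y = c 64 * c 128 := by decide +kernel
  rcases this y hy with rfl | rfl | rfl | rfl
  exacts [by simp, h1, h2, map_mul ψ _ _ ▸ h1.mul_right h2]

theorem T_W : ∀ j < 72, ∀ w, W w → W (T j w) := by decide +kernel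

theorem Act.onW {m : G} {u w : C} {j : ℕ} (h : Act ψ ((ψ u)⁻¹ * m) (T j)) (hj : j < 72) (hw : W w) :
    m * ψ w * m⁻¹ = ψ (T j w) := by
  rw [h.of_inv]; beta_reduce; rw [← W_comm _ (T_W j hj w hw), mul_inv_cancel_right]

theorem chk3 : ∀ u, ∀ j < 72, (j = 0 ∧ W u) ∨ ∃ x ∈ [1, 2, 4, 8, 64, 128], c x * (u * T j (c x) * u⁻¹)⁻¹ ≠ 1 ∧
    ∃ y ∈ [1, 2, 4, 8, 64, 128], c y * (u * T j (c y) * u⁻¹)⁻¹ ≠ 1 ∧
      c x * (u * T j (c x) * u⁻¹)⁻¹ ≠ c y * (u * T j (c y) * u⁻¹)⁻¹ := by decide +kernel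

/-- half of the final position of a conjugate of the centre -/
structure Half (A : Subgroup G) (ψ : C →* G) (g : G) : Prop where
  nm : g ∉ normalizer (A : Set G)
  cu : ∀ x, R x → ∀ y, Commute (g * ψ x * g⁻¹) (ψ y)
  wk : ∀ x, R x → ∃ w, W w ∧ (ψ w)⁻¹ * (g * ψ x * g⁻¹) ∈ centralizer (A : Set G)

/-- the final position -/
structure Pair (A : Subgroup G) (ψ : C →* G) (g : G) : Prop where
  nm : g ∉ normalizer (A : Set G)
  nu : g ∈ normalizer (ψ.range : Set G)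
  r1 : ∀ x, R x → ∃ y, R1 y ∧ g * ψ x * g⁻¹ = ψ y
  r1' : ∀ x, R x → ∃ y, R1 y ∧ g⁻¹ * ψ x * g = ψ y
  kd : ∀ k ∈ centralizer (A : Set G), ∃ x, R x ∧ g⁻¹ * ((ψ x)⁻¹ * k) * g ∈ centralizer (A : Set G)
  kd' : ∀ k ∈ centralizer (A : Set G), ∃ x, R x ∧ g * ((ψ x)⁻¹ * k) * g⁻¹ ∈ centralizer (A : Set G)

namespace Cfg

variable (H : Cfg A ψ h n1 n2)
include H

theorem small {m t : G} {u : C} {j : ℕ} (a : Act ψ ((ψ u)⁻¹ * m) (T j)) (hj : j < 72)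
    (e : ∀ y, ψ y * m * (ψ y)⁻¹ = m ∨ ψ y * m * (ψ y)⁻¹ = t * m) : j = 0 ∧ W u := by
  have key : ∀ y, y * (u * T j y * u⁻¹)⁻¹ ≠ 1 → ψ (y * (u * T j y * u⁻¹)⁻¹) = t := fun y hy => by
    have e1 : ψ (y * (u * T j y * u⁻¹)⁻¹) = ψ y * m * (ψ y)⁻¹ * m⁻¹ := by
      rw [map_mul, map_inv, ← a.of_inv]; group
    rcases e y with e | e
    · exact absurd (by rw [e1, e, mul_inv_cancel]) (H.ne hy)
    · rw [e1, e, mul_inv_cancel_right]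
  refine (chk3 u j hj).resolve_right ?_
  rintro ⟨x, -, h1, y, -, h2, h3⟩
  exact h3 (H.inj ((key _ h1).trans (key _ h2).symm))

theorem disj {g : G} (hg : g ∉ 𝐌) {x : C} (hx : R x) (e : g * ψ x * g⁻¹ ∈ 𝐊) : x = 1 :=
  by_contra fun h1 => hg (H.teR hx h1 e)

theorem comR {g a : G} (hg : g ∉ 𝐌) (ha : a ∈ 𝐌) (hk : g * a * g⁻¹ ∈ 𝐊) {y : C} (hy : R y)
    (hm : g * ψ y * g⁻¹ ∈ 𝐌) : Commute a (ψ y) := by
  obtain ⟨w, hw, e⟩ := H.mR ha hy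
  have := H.disj hg (R_mul _ hw _ hy) (by
    rw [map_mul, ← e, ← He5.inv_self (sqW (R_W hy))]
    convert mul_mem hk (cjK hm (inv_mem hk)) using 1
    rw [He5.inv_self (sqW (R_W hy)), mul_inv_rev (g * ψ y), mul_inv_rev g, He5.inv_self (sqW (R_W hy))]
    group)
  rw [eq_inv_of_mul_eq_one_left this, ← eq_inv_of_mul_eq_one_left (W_sq y (R_W hy))] at e
  exact comm_of_cj e

theorem L_comm {g : G} (hg : g ∉ 𝐌) {r : C} (hr : R r) (h1 : r ≠ 1)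
    (hc : ∀ y, R y → Commute (g * ψ r * g⁻¹) (ψ y)) : CC ψ g := by
  have h2 : ∀ y, R y → Commute (g⁻¹ * ψ y * g) (ψ r) := fun y hy => (comm_cj' (hc y hy)).symm
  obtain ⟨s, hs, h3, h4⟩ : ∃ s, R s ∧ s ≠ 1 ∧ ∀ x, R x → Commute (g⁻¹ * ψ s * g) (ψ x) := by
    rcases H.idx2 hr h1 (h2 (c 64) (by decide)) (h2 (c 128) (by decide)) with e | e | e
    · exact ⟨_, by decide, by decide, e⟩
    · exact ⟨_, by decide, by decide, e⟩
    · exact ⟨c 64 * c 128, by decide +kernel, by decide +kernel, by simpa [mul_assoc] using e⟩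
  exact fun x hx y hy => H.comR (g := g⁻¹) (by simpa using hg) (H.teC hs h3 (comm_cj'' (h4 x hx).symm))
    (by simpa [mul_assoc] using H.cen x hx) hy (by simpa using H.teC hr h1 (h2 y hy))

omit H in
theorem zp_two {t : G} (h : t * t = 1) : IsPGroup 2 (zpowers t) := by
  rintro ⟨_, n, rfl⟩
  refine ⟨1, Subtype.ext ?_⟩
  change (t ^ n) ^ 2 ^ 1 = 1
  rw [← zpow_natCast, ← zpow_mul, mul_comm, zpow_mul, zpow_natCast, pow_one, pow_two, h, one_zpow]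

theorem exists_CC [Finite G] {g t : G} (hg : g ∉ 𝐌) (ht : t ∈ 𝐌) (h2 : t * t = 1) (h1 : t ≠ 1)
    (hk : g⁻¹ * t * g ∈ 𝐊) : ∃ g ∉ 𝐌, CC ψ g := by
  obtain ⟨r, hr, r1, a1⟩ := H.fixR ht h2
  have sq' : ∀ {t : G}, t * t = 1 → g⁻¹ * t * g * (g⁻¹ * t * g) = 1 := fun {t} e => by
    rw [show g⁻¹ * t * g * (g⁻¹ * t * g) = g⁻¹ * (t * t) * g by group, e]; group
  have a2 : g⁻¹ * ψ r * g ∈ 𝐌 := H.te _ hk (sq' h2) (by
    simpa using conj_eq_one_iff (a := g⁻¹) |>.not.2 h1) _ (by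
    rwa [cj_of_comm (by simpa using comm_cj a1.symm g⁻¹)])
  obtain ⟨s, hs, s1, a3⟩ := H.fixR a2 (sq' (sqW (R_W hr)))
  have sq : ∀ g : G, g * ψ s * g⁻¹ * (g * ψ s * g⁻¹) = 1 := fun g => by rw [conj_mul, sqW (R_W hs)]; simp
  have a4 := H.teC hr r1 (comm_cj'' a3.symm)
  obtain ⟨m, hm, a5⟩ := H.exists_norm (zp_two (sq g)) (zpowers_le.2 a4)
  have a6 := a5 _ (mem_zpowers _)
  have a7 := mul_mem (mul_mem hm a4) (inv_mem hm)
  rw [← cj_mul] at a6 a7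
  have a8 : m * g ∉ 𝐌 := fun e => hg ((mul_mem_cancel_left hm).1 e)
  generalize m * g = g at a6 a7 a8
  obtain ⟨u, j, hj, b1, -⟩ := H.fb _ a7 a6
  have b2 := b1.of_inv
  have chk : ∀ u, ∀ j < 36, (∀ k < 8, u * T j (u * T j (c (2 ^ k)) * u⁻¹) * u⁻¹ = c (2 ^ k)) →
      (u * T j (c 64) * u⁻¹ = c 64 ∧ u * T j (c 128) * u⁻¹ = c 128) ∨
      ∃ p ∈ [(1, 2, 3), (1, 4, 81), (1, 5, 80), (1, 8, 97), (1, 8, 145), (1, 9, 96), (1, 9, 144), (1, 12, 97),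
        (1, 12, 145), (1, 13, 96), (1, 13, 144), (2, 4, 162), (2, 6, 160), (2, 8, 82), (2, 10, 80), (2, 12, 82),
        (2, 14, 80), (5, 10, 143), (6, 11, 77), (7, 9, 78)],
        (∀ y ∈ [p.1, p.2.1, p.2.2], c y * (u * T j (c y) * u⁻¹)⁻¹ ≠ 1 ∧
          u * T j (c y * (u * T j (c y) * u⁻¹)⁻¹) * u⁻¹ = c y * (u * T j (c y) * u⁻¹)⁻¹) ∧
        c p.1 * (u * T j (c p.1) * u⁻¹)⁻¹ * (c p.2.1 * (u * T j (c p.2.1) * u⁻¹)⁻¹) =
          c p.2.2 * (u * T j (c p.2.2) * u⁻¹)⁻¹ := by decide +kernel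
  rcases chk u j hj (fun k _ => H.inj (by rw [← b2.mul b2, sq]; simp)) with e | ⟨p, -, e1, e2⟩
  · exact ⟨g, a8, H.L_comm a8 hs s1 (comR_of (b2.comm e.1) (b2.comm e.2))⟩
  have key : ∀ y, y * (u * T j y * u⁻¹)⁻¹ ≠ 1 →
      (∀ x, R x → Commute (g⁻¹ * ψ (y * (u * T j y * u⁻¹)⁻¹) * g) (ψ x)) → ∃ g ∉ 𝐌, CC ψ g := fun y y1 y2 => by
    have e : g⁻¹ * ψ y * g * ψ s * (g⁻¹ * ψ y * g)⁻¹ = g⁻¹ * ψ (y * (u * T j y * u⁻¹)⁻¹) * g * ψ s := by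
      rw [map_mul, map_inv, ← b2]; group
    by_cases e1 : g⁻¹ * ψ y * g ∈ 𝐌
    · obtain ⟨w, hw, e2⟩ := H.mR e1 hs
      have e3 : g * ψ (w * s) * g⁻¹ = ψ (y * (u * T j y * u⁻¹)⁻¹) := by
        rw [map_mul, ← e2, e, mul_assoc _ (ψ s), sqW (R_W hs)]; group
      exact ⟨g, a8, H.L_comm a8 (R_mul _ hw _ hs) (fun e4 => H.ne y1 (by rw [← e3, e4]; simp))
        fun x hx => e3 ▸ (comW (R_W hx) _).symm⟩
    · exact ⟨_, e1, H.L_comm e1 hs s1 fun x hx => e ▸ (y2 x hx).mul_left (comW (R_W hs) x)⟩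
  have c1 := e1 p.1 (by simp)
  have c2 := e1 p.2.1 (by simp)
  rcases H.idx2 hs s1 (comm_cj' (b2.comm c1.2)).symm (comm_cj' (b2.comm c2.2)).symm with e | e | e
  exacts [key _ c1.1 e, key _ c2.1 e, key _ (e1 p.2.2 (by simp)).1 (by
    rw [← e2, map_mul]; simpa [mul_assoc] using e)]

theorem half_of {g : G} (hg : g ∉ 𝐌) {r : C} (hr : R r) (h1 : r ≠ 1)
    (hc : ∀ y, Commute (g * ψ r * g⁻¹) (ψ y)) : Half A ψ g := by
  have h2 := H.L_comm hg hr h1 fun y _ => hc y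
  have key : ∀ x, R x → ∃ w, W w ∧ (ψ w)⁻¹ * (g * ψ x * g⁻¹) ∈ 𝐊 := fun x hx => by
    have a1 := H.teC (r := c 64) (by decide) (by decide) (h2 x hx _ (by decide))
    have a2 : ∀ y, ψ y * (g * ψ x * g⁻¹) * (ψ y)⁻¹ = g * ψ x * g⁻¹ ∨
        ψ y * (g * ψ x * g⁻¹) * (ψ y)⁻¹ = g * ψ r * g⁻¹ * (g * ψ x * g⁻¹) := fun y =>
      (H.mR2 hr h1 (comm_cj' (hc y)).symm hx).imp (fun e => by (conv_rhs => rw [← e]); group) fun e => by
        rw [conj_mul, ← (comW (R_W hx) r).eq, ← e]; group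
    have : Finite (ψ.range : Set G) := Set.finite_range ψ
    have a3 : g * ψ x * g⁻¹ ∈ 𝐍 := mem_normalizer_fintype (by
      rintro _ ⟨y, rfl⟩
      rcases a2 y⁻¹ with e | e
      · exact ⟨y, (cj_of_comm (by simpa using (comm_of_cj e).symm)).symm⟩
      · have e1 : g * ψ r * g⁻¹ = (ψ y)⁻¹ * (g * ψ x * g⁻¹ * ψ y * (g * ψ x * g⁻¹)⁻¹) := by
          rw [eq_mul_inv_of_mul_eq e.symm, map_inv]; group
        have e2 := H.fa' (e1 ▸ mul_mem (inv_mem (H.mem y)) (cjA a1 (H.mem y))) (w := c 32) (by decide)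
          (by decide) (hc _)
        exact (mul_mem_cancel_left (H := ψ.range) (inv_mem (MonoidHom.mem_range.2 ⟨y, rfl⟩))).1 (e1 ▸ e2))
    obtain ⟨u, j, hj, b1, b2⟩ := H.fb _ a1 a3
    obtain ⟨b3, b4⟩ := H.small b1 (by omega) a2
    exact ⟨u, b4, b2 b3⟩
  refine ⟨hg, fun x hx y => ?_, key⟩
  obtain ⟨w, hw, e⟩ := key x hx
  simpa using (comW hw y).mul_left (H.comU e y)

theorem exists_half [Finite G] {g : G} (hg : g ∉ 𝐌) (hc : CC ψ g) : ∃ m ∈ 𝐌, Half A ψ (m * g) := by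
  let Q : Subgroup G :=
    { carrier := {a | ∃ x, R x ∧ a = g * ψ x * g⁻¹}
      one_mem' := ⟨1, by decide, by simp⟩
      mul_mem' := by
        rintro _ _ ⟨x, hx, rfl⟩ ⟨y, hy, rfl⟩
        exact ⟨_, R_mul x hx y hy, by rw [conj_mul, map_mul]⟩
      inv_mem' := by
        rintro _ ⟨x, hx, rfl⟩
        exact ⟨x, hx, by rw [conj_inv, He5.inv_self (sqW (R_W hx))]⟩ }
  have sq : ∀ (g : G) x, R x → g * ψ x * g⁻¹ * (g * ψ x * g⁻¹) = 1 := fun g x hx => by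
    rw [conj_mul, sqW (R_W hx)]; simp
  obtain ⟨m, hm, a1⟩ := H.exists_norm (P := Q) (by
    rintro ⟨_, x, hx, rfl⟩
    exact ⟨1, Subtype.ext ((pow_two _).trans (sq g x hx))⟩) (by
    rintro _ ⟨x, hx, rfl⟩
    exact H.teC (r := c 64) (by decide) (by decide) (hc x hx _ (by decide)))
  have a2 : CC ψ (m * g) := fun x hx y hy => by
    obtain ⟨w, hw, e⟩ := H.mR (inv_mem hm) hy
    rw [cj_mul]
    exact comm_cj'' (by rw [inv_inv] at e; rw [e]; exact hc x hx w hw)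
  have a3 : m * g ∉ 𝐌 := fun e => hg ((mul_mem_cancel_left hm).1 e)
  have a4 : ∀ x, R x → m * g * ψ x * (m * g)⁻¹ ∈ 𝐍 := fun x hx => cj_mul m g _ ▸ a1 _ ⟨x, hx, rfl⟩
  suffices ∃ a ∈ A, Half A ψ (a * (m * g)) from
    this.elim fun a e => ⟨a * m, mul_mem (AM e.1) hm, mul_assoc a m g ▸ e.2⟩
  generalize m * g = g at a2 a3 a4
  have a5 := fun x hx => H.fb _ (H.teC (r := c 64) (by decide) (by decide) (a2 x hx _ (by decide))) (a4 x hx)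
  obtain ⟨x, hx, x1, u, hu⟩ : ∃ x, R x ∧ x ≠ 1 ∧ ∃ u, (ψ u)⁻¹ * (g * ψ x * g⁻¹) ∈ 𝐊 := by
    have chk : ∀ i < 36, T i (c 64) = c 64 ∧ T i (c 128) = c 128 ∧ T i (T i (c 16)) = c 16 →
      ∀ j < 36, T j (c 64) = c 64 ∧ T j (c 128) = c 128 ∧ T j (T j (c 16)) = c 16 →
      ∀ k < 36, T k (c 64) = c 64 ∧ T k (c 128) = c 128 ∧ T k (T k (c 16)) = c 16 →
      T i (T j (c 16)) = T k (c 16) → T i (T j (c 32)) = T k (c 32) → i = 0 ∨ j = 0 ∨ k = 0 := by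
      decide +kernel
    have b : ∀ {x u j}, R x → j < 36 → Act ψ ((ψ u)⁻¹ * (g * ψ x * g⁻¹)) (T j) →
        T j (c 64) = c 64 ∧ T j (c 128) = c 128 ∧ T j (T j (c 16)) = c 16 := fun {x u j} hx hj e =>
      ⟨H.inj (by rw [← e.onW (by omega) (by decide), cj_of_comm (a2 x hx _ (by decide))]),
        H.inj (by rw [← e.onW (by omega) (by decide), cj_of_comm (a2 x hx _ (by decide))]),
        H.inj (by rw [← e.onW (by omega) (T_W j (by omega) _ (by decide)), ← e.onW (by omega) (by decide),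
          ← cj_mul, sq g x hx]; simp)⟩
    have r3 : R (c 64 * c 128) := by decide +kernel
    obtain ⟨u1, j1, l1, e1, k1⟩ := a5 (c 64) (by decide)
    obtain ⟨u2, j2, l2, e2, k2⟩ := a5 (c 128) (by decide)
    obtain ⟨u3, j3, l3, e3, k3⟩ := a5 _ r3
    have b' : ∀ w, W w → T j1 (T j2 w) = T j3 w := fun w hw => H.inj (by
      rw [← e1.onW (by omega) (T_W _ (by omega) _ hw), ← e2.onW (by omega) hw, ← e3.onW (by omega) hw,
        ← cj_mul, conj_mul, map_mul])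
    rcases chk j1 l1 (b (by decide) l1 e1) j2 l2 (b (by decide) l2 e2) j3 l3 (b r3 l3 e3)
      (b' _ (by decide)) (b' _ (by decide)) with e | e | e
    exacts [⟨_, by decide, by decide, _, k1 e⟩, ⟨_, by decide, by decide, _, k2 e⟩,
      ⟨_, r3, by decide +kernel, _, k3 e⟩]
  have b1 : R (u * u) := H.memK (by
    have := sq g x hx
    rw [← mul_inv_cancel_left (ψ u) (g * ψ x * g⁻¹), (H.comU hu u).mul_mul_mul_comm] at this
    rw [map_mul, eq_inv_of_mul_eq_one_left this]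
    exact inv_mem (mul_mem hu hu))
  have b2 : ¬ R u := fun e => x1 (H.disj a3 hx ((mul_mem_cancel_left (inv_mem (H.cen u e))).1 hu))
  obtain ⟨a, ha, w, hw, e⟩ : ∃ a ∈ A, ∃ w, W w ∧ a * ψ u * a⁻¹ = ψ w := by
    have chk : ∀ u, R (u * u) → V1 u ∨ V2 u := by decide +kernel
    rcases chk u b1 with e | e
    · obtain ⟨a, ha, y, hy, e, -⟩ := H.toV e b2
      exact ⟨a, ha, _, W_mul _ (by decide) _ (R_W hy), e⟩
    · obtain ⟨a, ha, y, hy, e, -⟩ := H.dual.toV ((θ_chk u).2.2.2.2.1 e) (mt (θ_chk u).1.2 b2)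
      exact ⟨a, ha, _, (θ_chk _).2.1.1 (W_mul _ (by decide) _ (R_W hy)),
        (congrArg (fun v => a * ψ v * a⁻¹) (θ_θ u)).symm.trans e⟩
  refine ⟨a, ha, H.half_of (fun e => a3 ((mul_mem_cancel_left (AM ha)).1 e)) hx x1 fun y => ?_⟩
  rw [cj_mul, ← mul_inv_cancel_left (ψ u) (g * ψ x * g⁻¹), ← conj_mul, e]
  exact (comW hw y).mul_left (H.comU (cjK (AM ha) hu) y)

theorem mulK {u v : C} {a b : G} (ha : (ψ u)⁻¹ * a ∈ 𝐊) (hb : (ψ v)⁻¹ * b ∈ 𝐊) :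
    (ψ (u * v))⁻¹ * (a * b) ∈ 𝐊 := by
  convert mul_mem ha hb using 1
  rw [← mul_assoc _ (ψ v)⁻¹ b, (H.comU ha v).inv_right.eq, map_mul]; group

theorem invK {u : C} {a : G} (ha : (ψ u)⁻¹ * a ∈ 𝐊) : (ψ u⁻¹)⁻¹ * a⁻¹ ∈ 𝐊 := by
  convert cjK (AM (H.mem u)) (inv_mem ha) using 1
  rw [map_inv]; group

theorem Half.w12 {g : G} (a : Half A ψ g) : ∃ w, W w ∧ ∃ w', W w' ∧ ¬ R w ∧ ¬ R w' ∧ ¬ R (w * w') ∧
    (ψ w)⁻¹ * (g * ψ (c 64) * g⁻¹) ∈ 𝐊 ∧ (ψ w')⁻¹ * (g * ψ (c 128) * g⁻¹) ∈ 𝐊 := by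
  have key : ∀ {w x}, (ψ w)⁻¹ * (g * ψ x * g⁻¹) ∈ 𝐊 → R x → x ≠ 1 → ¬ R w := fun {w x} e hx x1 hw =>
    x1 (H.disj a.nm hx ((mul_mem_cancel_left (inv_mem (H.cen w hw))).1 e))
  obtain ⟨w, hw, e⟩ := a.wk (c 64) (by decide)
  obtain ⟨w', hw', e'⟩ := a.wk (c 128) (by decide)
  exact ⟨w, hw, w', hw', key e (by decide) (by decide), key e' (by decide) (by decide),
    key (x := c 64 * c 128) (by rw [map_mul ψ (c 64), ← conj_mul]; exact H.mulK e e') (by decide +kernel)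
      (by decide +kernel), e, e'⟩

theorem Half.cen {g m : G} (a : Half A ψ g) (h1 : ∀ x, R x → Commute m (ψ x))
    (h2 : ∀ x, R x → Commute m (g * ψ x * g⁻¹)) : ∃ u, (ψ u)⁻¹ * m ∈ 𝐊 := by
  obtain ⟨w, hw, w', hw', a1, a2, a3, a4, a5⟩ := Half.w12 H a
  have hm := H.teC (r := c 64) (by decide) (by decide) (h1 _ (by decide))
  obtain ⟨u, j, hj, b1, b2⟩ := H.fb m hm (H.N_of hm hw hw a1 a4 a4 (by
    rw [mul_inv_cancel_left, cj_of_comm (h2 _ (by decide))]))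
  have key : ∀ {w x}, W w → R x → (ψ w)⁻¹ * (g * ψ x * g⁻¹) ∈ 𝐊 → R (w⁻¹ * T j w) := fun {w x} hw hx e =>
    H.memK (by
      convert mul_mem e (inv_mem (cjK hm e)) using 1
      rw [← conj_mul, cj_of_comm (h2 x hx), map_mul, map_inv, ← b1.onW (by omega) hw]; group)
  have chk : ∀ j < 36, T j (c 64) = c 64 → T j (c 128) = c 128 → ∀ w, W w → ¬ R w → R (w⁻¹ * T j w) →
      ∀ w', W w' → ¬ R w' → R (w'⁻¹ * T j w') → ¬ R (w * w') → j = 0 := by decide +kernel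
  exact ⟨u, b2 (chk j hj (H.inj (by rw [← b1.onW (by omega) (by decide), cj_of_comm (h1 _ (by decide))]))
    (H.inj (by rw [← b1.onW (by omega) (by decide), cj_of_comm (h1 _ (by decide))])) w hw a1
    (key hw (by decide) a4) w' hw' a2 (key hw' (by decide) a5) a3)⟩

theorem Half.rk {g : G} (a : Half A ψ g) {v : C} (hv : W v) : ∃ x, R x ∧ (ψ v)⁻¹ * (g * ψ x * g⁻¹) ∈ 𝐊 := by
  obtain ⟨w, hw, w', hw', a1, a2, a3, a4, a5⟩ := Half.w12 H a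
  have chk : ∀ w, W w → ¬ R w → ∀ w', W w' → ¬ R w' → ¬ R (w * w') → ∀ v, W v →
      R (v⁻¹ * 1) ∨ R (v⁻¹ * w) ∨ R (v⁻¹ * w') ∨ R (v⁻¹ * (w * w')) := by decide +kernel
  have key : ∀ {w x}, R (v⁻¹ * w) → (ψ w)⁻¹ * x ∈ 𝐊 → (ψ v)⁻¹ * x ∈ 𝐊 := fun {w x} e1 e2 => by
    simpa [mul_assoc] using mul_mem (H.cen _ e1) e2
  rcases chk w hw a1 w' hw' a2 a3 v hv with e | e | e | e
  exacts [⟨1, by decide, key e (by simp)⟩, ⟨_, by decide, key e a4⟩, ⟨_, by decide, key e a5⟩,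
    ⟨c 64 * c 128, by decide +kernel, key e (by rw [map_mul ψ (c 64), ← conj_mul]; exact H.mulK a4 a5)⟩]

section
variable {g : G} (a : Half A ψ g) (b : Half A ψ g⁻¹)
include a b

theorem P1 (x : C) : ∃ u, (ψ u)⁻¹ * (g * ψ x * g⁻¹) ∈ 𝐊 :=
  Half.cen H a (fun y hy => comm_cj'' (by simpa using (b.cu y hy x).symm))
    fun y hy => comm_cj (comW (R_W hy) x).symm g

omit a b in
theorem cmK {u v : C} {p q : G} (hp : (ψ u)⁻¹ * p ∈ 𝐊) (hq : (ψ v)⁻¹ * q ∈ 𝐊) :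
    (ψ (u * v * u⁻¹ * v⁻¹))⁻¹ * (p * q * p⁻¹ * q⁻¹) ∈ 𝐊 :=
  H.mulK (H.mulK (H.mulK hp hq) (H.invK hp)) (H.invK hq)

theorem P3 {k : G} (hk : k ∈ 𝐊) : ∃ u, (ψ u)⁻¹ * (g * k * g⁻¹) ∈ 𝐊 := by
  obtain ⟨u, hu⟩ := H.P1 a b (c 1)
  obtain ⟨v, hv⟩ := H.P1 a b (c 4)
  have chk : ∀ u v : C, W (u * v * u⁻¹ * v⁻¹) := by decide +kernel
  obtain ⟨x, hx, e⟩ := Half.rk H a (chk u v)
  have h1 : g * ψ (x⁻¹ * c 80) * g⁻¹ ∈ 𝐊 := by
    convert mul_mem (inv_mem e) (H.cmK hu hv) using 1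
    rw [show c 80 = c 1 * c 4 * (c 1)⁻¹ * (c 4)⁻¹ by decide +kernel]
    simp [mul_assoc]
  have chk2 : ∀ x, R x → W (x⁻¹ * c 80) ∧ x⁻¹ * c 80 ≠ 1 := by decide +kernel
  have h2 := H.te _ h1 (by rw [conj_mul, sqW (chk2 x hx).1]; simp) (by simpa using H.ne (chk2 x hx).2)
    (g * k * g⁻¹) (by rwa [cj_of_comm (comm_cj (H.comU hk _) g)])
  exact Half.cen H a (fun y hy => H.comR b.nm h2 (by simpa [mul_assoc] using hk) hy
    (H.teC (r := c 64) (by decide) (by decide) (b.cu y hy _))) fun y _ => comm_cj (H.comU hk y) g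

theorem P4 {k : G} (hk : k ∈ 𝐊) {u : C} (hu : (ψ u)⁻¹ * (g * k * g⁻¹) ∈ 𝐊) : W u := by
  let pp : ℕ → ℕ → Prop := fun a b => (cc a b ^^^ cc b a) % 64 = 0
  have perp : ∀ {u v : C} {p q : G}, (ψ u)⁻¹ * p ∈ 𝐊 → (ψ v)⁻¹ * q ∈ 𝐊 → Commute p q →
      pp (u.v % 16) (v.v % 16) := fun {u v p q} hp hq e => by
    have chk : ∀ u v : C, R (u * v * u⁻¹ * v⁻¹) → (cc (u.v % 16) (v.v % 16) ^^^ cc (v.v % 16) (u.v % 16)) % 64 = 0 := by
      decide +kernel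
    have := H.cmK hp hq
    rw [cj_of_comm e, mul_inv_cancel, mul_one, inv_mem_iff] at this
    exact chk u v (H.memK this)
  choose f hf using H.P1 a b
  obtain ⟨s, hs⟩ : ∃ s, ¬ W (f s) := by
    by_contra! e
    have := H.mulK (H.cmK (hf (c 1)) (hf (c 4))) (H.cmK (hf (c 2)) (hf (c 12)))
    rw [W_comm _ (e _), W_comm _ (e (c 2))] at this
    refine absurd (H.disj a.nm (x := c 128) (by decide) ?_) (by decide)
    rw [show c 128 = c 1 * c 4 * (c 1)⁻¹ * (c 4)⁻¹ * (c 2 * c 12 * (c 2)⁻¹ * (c 12)⁻¹) by decide +kernel]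
    simpa [mul_assoc] using this
  by_contra hw
  have chk : ∀ a < 16, a ≠ 0 → ∃ v < 16, ∀ s < 16, s ≠ 0 → (cc a s ^^^ cc s a) % 64 = 0 →
      ∀ a' < 16, (cc a' s ^^^ cc s a') % 64 = 0 → ∀ a'' < 16, (cc a a'' ^^^ cc a'' a) % 64 = 0 →
      (c v).v % 16 ≠ a'' ^^^ a' := by decide +kernel
  have lt : ∀ n : ℕ, n % 16 < 16 := fun n => Nat.mod_lt _ (by decide)
  obtain ⟨v, -, hv⟩ := chk _ (lt _) hw
  obtain ⟨x, hx⟩ := H.P1 b (by simpa using a) (c v)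
  obtain ⟨u', hu'⟩ := H.P3 a b hx
  refine hv _ (lt _) hs (perp hu (hf s) (comm_cj (H.comU hk s) g)) _ (lt _)
    (perp hu' (hf s) (comm_cj (H.comU hx s) g)) _ (lt _) (perp hu (hf x) (comm_cj (H.comU hk x) g)) ?_
  have e := H.mulK (hf x) hu'
  rw [show g * ψ x * g⁻¹ * (g * ((ψ x)⁻¹ * (g⁻¹ * ψ (c v) * g⁻¹⁻¹)) * g⁻¹) = ψ (c v) by group, ← map_inv,
    ← map_mul] at e
  rw [← mul_inv_cancel_left (f x * u') (c v)]
  change mu (mu _ _) _ % 16 = _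
  rw [mu_mod, mu_mod, show _ % 16 = 0 from R_W (H.memK e), Nat.xor_zero]

theorem P5 {k : G} (hk : k ∈ 𝐊) : ∃ x, R x ∧ g * ((ψ x)⁻¹ * k) * g⁻¹ ∈ 𝐊 := by
  obtain ⟨u, hu⟩ := H.P3 a b hk
  obtain ⟨x, hx, e⟩ := Half.rk H a (H.P4 a b hk hu)
  exact ⟨x, hx, by convert mul_mem (inv_mem e) hu using 1; group⟩

theorem P7 (x : C) : ∃ y, g * ψ x * g⁻¹ = ψ y := by
  obtain ⟨u, hu⟩ := H.P1 a b x
  obtain ⟨r, hr, e⟩ := H.P5 a b hu
  have h1 := mul_mem (inv_mem (H.cen r hr)) hu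
  have odd : ∀ {d : G}, d ∈ 𝐊 → g * d * g⁻¹ ∈ 𝐊 → d * d = 1 → d = 1 := fun {d} d1 d2 d3 =>
    by_contra fun d4 => a.nm (H.te d d1 d3 d4 g d2)
  generalize hd : (ψ r)⁻¹ * ((ψ u)⁻¹ * (g * ψ x * g⁻¹)) = d at e h1
  have h2 : g * ψ x * g⁻¹ = ψ (u * r) * d := by rw [← hd, map_mul]; group
  have h3 : d * d * (d * d) = 1 := by
    have := congrArg (· ^ 4) h2
    simp only [conj_pow, (H.comU h1 _).symm.mul_pow, ← map_pow] at this
    have p4 : ∀ x : C, x ^ 4 = 1 := fun x => by rw [← pow4 x, ← pow_two, ← pow_two, ← pow_mul]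
    rw [← pow_two, ← pow_two, ← pow_mul]
    simpa [p4] using this.symm
  rw [odd h1 e (odd (mul_mem h1 h1) (by rw [← conj_mul]; exact mul_mem e e) h3), mul_one] at h2
  exact ⟨_, h2⟩

theorem P8 (x : C) (hx : R x) : ∃ y, R1 y ∧ g * ψ x * g⁻¹ = ψ y := by
  obtain ⟨y, e⟩ := H.P7 a b x
  refine ⟨y, by_contra fun h1 => ?_, e⟩
  have h2 : x ≠ 1 := by
    rintro rfl
    exact h1 (H.inj (e.symm.trans (by simp) : ψ y = ψ 1) ▸ by decide)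
  have chk : ∀ y, W y → ¬ R y → ¬ R1 y → ∃ p < 4, ∃ q < 4, c p * c p = 1 ∧ c (4 * q) * c (4 * q) = 1 ∧
      y = c p * c (4 * q) * (c p)⁻¹ * (c (4 * q))⁻¹ := by decide +kernel
  have chk' : ∀ p : C, p * p = 1 → ∀ q : C, q * q = 1 → R (p * q * p⁻¹ * q⁻¹) → p * q * p⁻¹ * q⁻¹ = 1 := by
    decide +kernel
  obtain ⟨p, -, q, -, p2, q2, rfl⟩ := chk y (H.toW fun w => e ▸ a.cu x hx w)
    (fun hy => h2 (H.disj a.nm hx (e ▸ H.cen y hy))) h1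
  obtain ⟨p', hp⟩ := H.P7 b (by simpa using a) (c p)
  obtain ⟨q', hq⟩ := H.P7 b (by simpa using a) (c (4 * q))
  have h3 : x = p' * q' * p'⁻¹ * q'⁻¹ := H.inj (by
    simp only [map_mul, map_inv] at e ⊢
    rw [← hp, ← hq, ← mul_left_inj g⁻¹, ← mul_right_inj g, ← mul_assoc, e]; group)
  have sq : ∀ {p p' : C}, p * p = 1 → g⁻¹ * ψ p * g⁻¹⁻¹ = ψ p' → p' * p' = 1 := fun {p p'} e1 e2 =>
    H.inj (by rw [map_mul, ← e2, conj_mul, ← map_mul, e1]; simp)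
  exact h2 (h3.trans (chk' _ (sq p2 hp) _ (sq q2 hq) (h3 ▸ hx)))

end

theorem pair_of [Finite G] {g : G} (a : Half A ψ g) : ∃ m ∈ 𝐌, Pair A ψ (g * m) := by
  obtain ⟨m, hm, b⟩ := H.exists_half (g := g⁻¹) (by simpa using a.nm)
    fun x hx y hy => comm_cj'' (by simpa using (a.cu y hy x).symm)
  have a' : Half A ψ (g * m⁻¹) := by
    have key : ∀ x, R x → ∃ y, R y ∧ g * m⁻¹ * ψ x * (g * m⁻¹)⁻¹ = g * ψ y * g⁻¹ := fun x hx => by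
      obtain ⟨y, hy, e⟩ := H.mR (inv_mem hm) hx
      exact ⟨y, hy, by rw [cj_mul, e]⟩
    refine ⟨fun e => a.nm ((mul_mem_cancel_right (inv_mem hm)).1 e), fun x hx => ?_, fun x hx => ?_⟩ <;>
      obtain ⟨y, hy, e⟩ := key x hx <;> rw [e]
    exacts [a.cu y hy, a.wk y hy]
  rw [show m * g⁻¹ = (g * m⁻¹)⁻¹ by group] at b
  have b' : Half A ψ (g * m⁻¹)⁻¹⁻¹ := by simpa using a'
  have : Finite (ψ.range : Set G) := Set.finite_range ψ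
  exact ⟨m⁻¹, inv_mem hm, a'.nm, mem_normalizer_fintype (by
    rintro _ ⟨x, rfl⟩; exact (H.P7 a' b x).imp fun _ => Eq.symm), H.P8 a' b,
    by simpa only [inv_inv] using H.P8 b b', fun k hk => by simpa only [inv_inv] using H.P5 b b' hk,
    fun k hk => H.P5 a' b hk⟩

theorem half_R1 [Finite G] {g : G} (a : Half A ψ g) {x : C} (hx : R x) : ∃ y, R1 y ∧ g * ψ x * g⁻¹ = ψ y := by
  obtain ⟨m, hm, p⟩ := H.pair_of a
  obtain ⟨y, hy, e⟩ := H.mR (inv_mem hm) hx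
  obtain ⟨w, hw, e'⟩ := p.r1 y hy
  exact ⟨w, hw, by rw [← e', ← e]; group⟩

theorem CAW [Finite G] {w : C} (hw : W w) (h : IsA ψ (ψ w)) : R w ∨ R1 w := by
  obtain ⟨g, r, hr, r1, e⟩ := h
  by_cases hg : g ∈ 𝐌
  · exact Or.inl (H.memK (e ▸ cjK hg (H.cen r hr)))
  · obtain ⟨y, hy, e'⟩ := H.half_R1 (H.half_of hg hr r1 fun y => e ▸ comW hw y) hr
    exact Or.inr (H.inj (e.trans e') ▸ hy)

theorem CA [Finite G] {t : G} (h : IsA ψ t) (hc : ∀ y, R y → Commute t (ψ y)) : t ∈ A := by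
  obtain ⟨g, r, hr, r1, rfl⟩ := h
  by_cases hg : g ∈ 𝐌
  · exact cjA hg (H.mem r)
  · obtain ⟨m, hm, a⟩ := H.exists_half hg (H.L_comm hg hr r1 hc)
    obtain ⟨y, -, e⟩ := H.half_R1 a hr
    exact (mem_normalizer_iff.1 hm _).2 (cj_mul m g _ ▸ e ▸ H.mem y)

theorem exists_pair [Finite G] {g t : G} (hg : g ∉ 𝐌) (ht : t ∈ 𝐌) (h2 : t * t = 1) (h1 : t ≠ 1)
    (hk : g⁻¹ * t * g ∈ 𝐊) : ∃ g, Pair A ψ g := by
  obtain ⟨g, hg, hc⟩ := H.exists_CC hg ht h2 h1 hk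
  obtain ⟨m, -, a⟩ := H.exists_half hg hc
  obtain ⟨m', -, p⟩ := H.pair_of a
  exact ⟨_, p⟩

end Cfg

end Cfsg.Agent.AS
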