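import Cfsg.Agent.AS.Amal
import Cfsg.Agent.Transfer.ThompsonTransfer

/-! The Sylow 2-subgroup. -/

set_option autoImplicit false
set_option synthInstance.maxSize 20000
set_option synthInstance.maxHeartbeats 200000

namespace Cfsg.Agent.AS

open Subgroup
open Cfsg.Agent.Comp (allL anyL or' force allL_iff anyL_iff or'_eq_true and'_eq_true force_eq beq_iff blt_iff)
open Cfsg.Agent.Comp.BN (ev ev_cons ev_nil ev_mem nth)
open Cfsg.Agent.He5 (V el lets evc isT o5 zc cod_el Hs)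

variable {G : Type*} [Group G] {ψ : C →* G} {A D : Subgroup G} {h n1 n2 g ζ s1 s2 : G} {ρ : Hs →* G}

local notation "𝐊" => centralizer (A : Set G)
local notation "𝐌" => normalizer (A : Set G)
local notation "𝐍" => normalizer (MonoidHom.range ψ : Set G)
local notation "𝐂" => centralizer (D : Set G)

theorem isA_dual {t : G} : IsA (ψ.comp θ) t ↔ IsA ψ t :=
  ⟨fun ⟨g, r, h1, h2, e⟩ => ⟨g, θ r, (θ_chk r).1.1 h1, fun e' => h2 (by rw [← θ_θ r, e', map_one]), e⟩,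
    fun ⟨g, r, h1, h2, e⟩ => ⟨g, θ r, (θ_chk r).1.1 h1, fun e' => h2 (by rw [← θ_θ r, e', map_one]),
      by rwa [MonoidHom.comp_apply, θ_θ]⟩⟩

theorem inj_chk : He5.allH (fun x => or' (Nat.beq x o5) (or' (Nat.beq x zc) (force (He5.iv x) fun x' =>
    anyL [17043523, 17567809, 17043525, 17059905, 17043529, 17044033] fun l =>
      force (He5.mu (He5.mu (He5.mu x l) x') l) fun y => or' (Nat.beq y zc)
        (anyL [17043523, 17567809, 17043525, 17059905, 17043529, 17044033] fun l' =>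
          Nat.beq (He5.mu (He5.mu y l') (He5.mu (He5.iv y) l')) zc)))) = true := by decide +kernel

theorem rho_inj (hz : ρ (el zc) ≠ 1) : Function.Injective ρ := by
  refine (injective_iff_map_eq_one ρ).2 fun a ha => ?_
  obtain ⟨x, hx, rfl⟩ := He5.el_surj a
  have hl : ∀ l ∈ [17043523, 17567809, 17043525, 17059905, 17043529, 17044033], V l ∧ He5.mu l l = o5 :=
    fun l hl => ⟨He5.V_of_vB (by revert l; decide +kernel), by revert l; decide +kernel⟩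
  have key : ∀ {x l}, V x → V l ∧ He5.mu l l = o5 → ρ (el x) = 1 →
      ρ (el (He5.mu (He5.mu (He5.mu x l) (He5.iv x)) l)) = 1 := fun {x l} hx hl e => by
    rw [He5.el_mu ((hx.mu hl.1).mu hx.iv) hl.1, He5.el_mu (hx.mu hl.1) hx.iv, He5.el_mu hx hl.1,
      cod_el.map_iv hx, map_mul, map_mul, map_mul, map_inv, e, one_mul, inv_one, mul_one, ← map_mul,
      cod_el.sq hl.1 hl.2, map_one]
  have := He5.allH_spec inj_chk hx
  simp only [or'_eq_true, beq_iff, force_eq, anyL_iff] at this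
  rcases this with rfl | rfl | ⟨l, h1, e | ⟨l', h2, e⟩⟩
  · exact He5.el_o5
  · exact absurd ha hz
  · exact absurd (e ▸ key hx (hl l h1) ha) hz
  · have h3 := ((hx.mu (hl l h1).1).mu hx.iv).mu (hl l h1).1
    have := key h3 (hl l' h2) (key hx (hl l h1) ha)
    rw [He5.mu_assoc (h3.mu (hl l' h2).1) h3.iv (hl l' h2).1, e] at this
    exact absurd this hz

theorem two_three {a x : G} {n : ℕ} (h : a ^ 2 ^ n = 1) (e : Commute (a ^ 3) x) : Commute a x := by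
  obtain ⟨m, hm⟩ := exists_pow_eq_self_of_coprime (x := a) (n := 3)
    ((Nat.Coprime.pow_right n (by decide)).coprime_dvd_right (orderOf_dvd_of_pow_eq_one h))
  exact hm ▸ e.pow_left m

namespace Cf3

open Cfg Cf2

variable (H : Cf3 A ψ h n1 n2 D g ζ s1 s2)

include H in
theorem pow8 (p : P) : sg ψ s1 s2 p ^ 2 ^ 3 = 1 := by
  have chk : ∀ x : C, ∀ e f : Bool, mp (mp (mp (x, e, f) (x, e, f)) (mp (x, e, f) (x, e, f)))
    (mp (mp (x, e, f) (x, e, f)) (mp (x, e, f) (x, e, f))) = o := by decide +kernel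
  rw [show 2 ^ 3 = 2 * 2 * 2 from rfl, pow_mul, pow_mul, pow_two, pow_two, pow_two, ← H.sg_mp, ← H.sg_mp,
    ← H.sg_mp, chk p.1 p.2.1 p.2.2, sg_o]

/-- the Sylow subgroup -/
def S0 : Subgroup G where
  carrier := Set.range (sg ψ s1 s2)
  one_mem' := ⟨o, sg_o⟩
  mul_mem' := by rintro _ _ ⟨p, rfl⟩ ⟨q, rfl⟩; exact ⟨_, H.sg_mp p q⟩
  inv_mem' := by
    rintro _ ⟨p, rfl⟩
    exact ⟨mp p (mp (mp p p) (mp (mp p p) (mp p p))), eq_inv_of_mul_eq_one_left (by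
      simpa [H.sg_mp, pow_succ, mul_assoc] using H.pow8 p)⟩

theorem S0_p : IsPGroup 2 H.S0 := by rintro ⟨_, p, rfl⟩; exact ⟨3, Subtype.ext (H.pow8 p)⟩

theorem U_S0 (x : C) : ψ x ∈ H.S0 := ⟨_, sg_ff x⟩

theorem s1_S0 : s1 ∈ H.S0 := ⟨(1, true, false), by simp [sg]⟩

theorem s2_S0 : s2 ∈ H.S0 := ⟨(1, false, true), by simp [sg]⟩

include H

theorem clsW {w : C} (hw : W w) (h1 : w ≠ 1) : ∃ k ∈ 𝐂, k * ψ w * k⁻¹ = ψ (c 64) ∨ k * ψ w * k⁻¹ = ψ (c 80) := by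
  have a : ∀ k, [h, ζ].getD k s1 ∈ 𝐂 ∧ ActV ψ ([h, ζ].getD k s1) ([T 12, T 13].getD k (T 36)) := fun k =>
    match k with
    | 0 => ⟨H.AC H.hA, H.hact.toV (by decide +kernel)⟩
    | 1 => ⟨H.zC, H.zact.toV (by decide +kernel)⟩
    | _ + 2 => ⟨H.w1.cd, H.w1.act.toV (by decide +kernel)⟩
  have chk : ∀ w, W w → w ≠ 1 → V1 w ∧ ∃ u ∈ [[], [0], [0, 0]], ∃ v ∈ [[], [1], [1, 1]], ∃ x ∈ [[], [2]],
    evT (fun k => [T 12, T 13].getD k (T 36)) (u ++ (v ++ x)) w = c 64 ∨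
    evT (fun k => [T 12, T 13].getD k (T 36)) (u ++ (v ++ x)) w = c 80 := by decide +kernel
  obtain ⟨hv, u, -, v, -, x, -, e⟩ := chk w hw h1
  exact ⟨_, ev_mem (fun k => (a k).1) (u ++ (v ++ x)), by
    rw [(ActV.ev (fun k => (a k).2) _ w hv).2]; exact e.imp (congrArg ψ) (congrArg ψ)⟩

theorem clsV {x : C} (hx : V1 x) (hr : ¬ R x) :
    ∃ k ∈ 𝐂, k * ψ x * k⁻¹ = ψ (c 64) ∨ k * ψ x * k⁻¹ = ψ (c 80) := by
  obtain ⟨a, ha, y, hy, e, -⟩ := H.toV hx hr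
  obtain ⟨k, hk, e'⟩ := H.clsW (W_mul (c 32) (by decide) y (R_W hy)) ((by decide +kernel : ∀ y, R y → c 32 * y ≠ 1) y hy)
  exact ⟨k * a, mul_mem hk (H.AC ha), by rwa [cj_mul, e]⟩

theorem toM [Finite G] {n : G} {w : C} (hw : W w) (e : n * ψ (c 64) * n⁻¹ = ψ w) : n ∈ 𝐌 ∨ s1 * n ∈ 𝐌 :=
  (H.CAW hw (e ▸ (isA_R (by decide) (by decide)).cj n)).imp
    (fun hr => H.teR (r := c 64) (by decide) (by decide) (e ▸ H.cen w hr)) fun hr =>
    H.teR (r := c 64) (by decide) (by decide) (by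
      rw [cj_mul, e, H.w1.act]; exact H.cen _ ((by decide +kernel : ∀ y, R1 y → R (T 36 y)) w hr))

theorem N_ofz [Finite G] {n : G} {w : C} (hw : W w) (e : n * ψ (c 64) * n⁻¹ = ψ w) (hz : Commute n (ψ (c 80))) :
    n ∈ 𝐍 := by
  rcases H.toM hw e with a | a
  · exact H.N_of' a (w := c 80) (by decide) (by decide) (by decide) (cj_of_comm hz)
  · exact (mul_mem_cancel_left H.w1.act.norm).1 (H.N_of' a (w := c 80) (by decide) (by decide) (by decide)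
      (cj_of_comm ((H.w1.act.comm (by decide +kernel)).mul_left hz)))

theorem fbN [Finite G] {n : G} (hn : n ∈ 𝐍) : ∃ u, ∃ j < 72, Act ψ ((ψ u)⁻¹ * n) (T j) := by
  obtain ⟨w, hw, e⟩ := H.cjW hn (w := c 64) (by decide)
  rcases H.toM hw e with a | a
  · obtain ⟨u, j, hj, b, -⟩ := H.fb n a hn
    exact ⟨u, j, by omega, b⟩
  · obtain ⟨u, j, hj, b, -⟩ := H.fb _ a (mul_mem H.w1.act.norm hn)
    have chk : ∀ j < 36, ∃ i < 72, ∀ x, T 36 (T j x) = T i x := by decide +kernel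
    obtain ⟨i, hi, e⟩ := chk j hj
    refine ⟨T 36 u, i, hi, ?_⟩
    convert (H.w1.act.mul b).congr e using 1
    rw [← H.w1.act, ← mul_assoc, ← mul_assoc, He5.inv_self H.w1.sq, mul_inv_rev, mul_inv_rev,
      He5.inv_self H.w1.sq, mul_assoc s1 _ s1]

section
variable [Finite G] {S : Subgroup G} (hS : IsPGroup 2 S) (h0 : H.S0 ≤ S)
include hS

omit H [Finite G] in
theorem twoS {s : G} (hs : s ∈ S) : ∃ n, s ^ 2 ^ n = 1 :=
  (hS ⟨s, hs⟩).imp fun _ e => congrArg Subtype.val e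

include h0

theorem D8 {s : G} (hs : s ∈ S) (hn : s ∈ 𝐍) :
    ∃ u, ∃ j ∈ [0, 36, 66, 30, 8, 29, 44, 65], Act ψ ((ψ u)⁻¹ * s) (T j) := by
  obtain ⟨u, j, hj, a⟩ := H.fbN hn
  have chk : ∀ j < 72, j ∈ [0, 36, 66, 30, 8, 29, 44, 65] ∨ ∃ e f : Bool, ∃ w ∈ [16, 64],
    let τ := fun x => T j (TE (1, e, f) (T j (TE (1, e, f) x)))
    τ (τ (τ (c w))) = c w ∧ τ (c w) ≠ c w := by decide +kernel
  refine ⟨u, j, (chk j hj).resolve_right ?_, a⟩
  rintro ⟨e, f, w, -, h1, h2⟩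
  have b := a.mul (H.te_act (1, e, f))
  have b' := b.mul b
  obtain ⟨n, hn⟩ := twoS hS (pow_mem (mul_mem (mul_mem (inv_mem (h0 (H.U_S0 u))) hs)
    (h0 ⟨(1, e, f), rfl⟩)) 2)
  rw [sg, map_one, one_mul, pow_two] at hn
  exact h2 (H.inj ((b' _).symm.trans (cj_of_comm (two_three hn
    (pow_three' (M := G) _ ▸ ((b'.mul b').mul b').comm h1)))))

theorem le_N : S ≤ 𝐍 := by
  by_contra hc
  have := Fact.mk Nat.prime_two
  obtain ⟨p, p0, p1, p2, p3⟩ := He5.exists_norm (K := S) (R := S ⊓ 𝐍) (L := S ⊓ 𝐍) hS.to_inf_left inf_le_left (by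
    obtain ⟨n, hn⟩ := hS.index ((S ⊓ 𝐍).subgroupOf S)
    rw [relIndex, hn]
    refine dvd_pow_self 2 fun e => hc ?_
    rw [e, pow_zero, index_eq_one, subgroupOf_eq_top] at hn
    exact hn.trans inf_le_right) (by simp)
  have a0 : H.S0 ≤ S ⊓ 𝐍 := fun s hs => ⟨h0 hs, by obtain ⟨q, rfl⟩ := hs; exact (H.sg_act q).norm⟩
  have a1 : ∀ s ∈ S ⊓ 𝐍, Commute s (ψ (c 80)) ∧
      (s * ψ (c 64) * s⁻¹ = ψ (c 64) ∨ s * ψ (c 64) * s⁻¹ = ψ (c 80) * ψ (c 64)) := fun s hs => by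
    obtain ⟨u, j, hj, a⟩ := H.D8 hS h0 hs.1 hs.2
    have chk : ∀ j ∈ [0, 36, 66, 30, 8, 29, 44, 65], j < 72 ∧ T j (c 80) = c 80 ∧
      (T j (c 64) = c 64 ∨ T j (c 64) = c 80 * c 64) := by decide +kernel
    obtain ⟨c1, c2, c3⟩ := chk j hj
    exact ⟨comm_of_cj (by rw [a.onW c1 (by decide), c2]), by
      rw [a.onW c1 (by decide), ← map_mul]; exact c3.imp (congrArg ψ) (congrArg ψ)⟩
  have inW : ∀ {x}, W x → (∀ y, Commute (p * ψ x * p⁻¹) (ψ y)) → ∃ w, W w ∧ p * ψ x * p⁻¹ = ψ w :=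
    fun {x} hx e => (H.CU e).imp fun w e' => ⟨e'.1, H.inU e'.2 (n := 1) (by
      rw [pow_one, pow_two, conj_mul, sqW hx]; simp)⟩
  have a2 : Commute p (ψ (c 80)) := by
    have b : ∀ s ∈ H.S0, Commute (p * ψ (c 80) * p⁻¹) s := fun s hs => comm_cj'' (a1 _ (p3 s (a0 hs))).1.symm
    obtain ⟨w, hw, e⟩ := inW (x := c 80) (by decide) fun y => b _ (H.U_S0 y)
    have chk : ∀ w, W w → T 36 w = w → T 66 w = w → w ≠ 1 → w = c 80 := by decide +kernel
    rw [e] at b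
    rw [chk w hw (H.inj (by rw [← H.w1.act, cj_of_comm (b _ H.s1_S0).symm]))
      (H.inj (by rw [← H.s2act, cj_of_comm (b _ H.s2_S0).symm])) fun e' =>
        H.ne (x := c 80) (by decide) (by simpa [e'] using e)] at e
    exact comm_of_cj e
  obtain ⟨u, j, hj, a3⟩ := H.fbN (p2 _ (a0 (H.U_S0 (c 64)))).2
  obtain ⟨rfl, a4⟩ := H.small (t := ψ (c 80)) a3 hj fun y =>
    (a1 _ (p3 _ (a0 (H.U_S0 y)))).2.imp (fun e => by (conv_rhs => rw [← e]); group) fun e => by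
      rw [← cj_of_comm a2, conj_mul, ← e]; group
  obtain ⟨w, hw, e⟩ := inW (x := c 64) (by decide) fun y => by
    simpa using (comW a4 y).mul_left (a3.comm (T_zero y))
  exact p1 ⟨p0, H.N_ofz hw e a2⟩

omit [Finite G] in
theorem inS0 {s : G} (hs : s ∈ S) {p : P} (a : Act ψ ((ψ p.1)⁻¹ * s) (TE p)) : s ∈ H.S0 := by
  obtain ⟨w, -, e⟩ := H.CU ((H.sg_act p).same a.of_inv)
  obtain ⟨n, hn⟩ := twoS hS (mul_mem (inv_mem (h0 ⟨p, rfl⟩)) hs)
  exact (mul_mem_cancel_left (H := H.S0) (inv_mem (show sg ψ s1 s2 p ∈ H.S0 from ⟨p, rfl⟩))).1 (H.inU e hn ▸ H.U_S0 w)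

theorem swap {s : G} (hs : s ∈ S) (h1 : s ∉ H.S0) : ∃ u, ∃ j ∈ [8, 29, 44, 65], Act ψ ((ψ u)⁻¹ * s) (T j) := by
  obtain ⟨u, j, hj, a⟩ := H.D8 hS h0 hs (H.le_N hS h0 hs)
  refine ⟨u, j, by_contra fun e => h1 ?_, a⟩
  obtain rfl | rfl | rfl | rfl : j = 0 ∨ j = 36 ∨ j = 66 ∨ j = 30 := by simp at hj e; omega
  exacts [H.inS0 hS h0 hs (p := (u, false, false)) a, H.inS0 hS h0 hs (p := (u, true, false)) a,
    H.inS0 hS h0 hs (p := (u, false, true)) a, H.inS0 hS h0 hs (p := (u, true, true)) a]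

theorem exists_x {s : G} (hs : s ∈ S) (h1 : s ∉ H.S0) : ∃ x ∈ S, x * x = 1 ∧ Act ψ x (T 29) := by
  obtain ⟨u, j, hj, a⟩ := H.swap hS h0 hs h1
  have chk : ∀ j ∈ [8, 29, 44, 65], ∃ e f : Bool, ∀ y, TE (1, e, f) (T j y) = T 29 y := by decide +kernel
  obtain ⟨e, f, c1⟩ := chk j hj
  have a1 := ((H.te_act (1, e, f)).mul a).congr c1
  have a2 := mul_mem (h0 ⟨(1, e, f), rfl⟩) (mul_mem (inv_mem (h0 (H.U_S0 u))) hs)
  rw [sg, map_one, one_mul] at a2
  generalize cond _ s1 1 * cond _ s2 1 * ((ψ u)⁻¹ * s) = x at a1 a2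
  obtain ⟨w, hw, a3⟩ := H.CU (m := x * x) fun y => (a1.mul a1).comm (by revert y; decide +kernel)
  obtain ⟨n, hn⟩ := twoS hS (mul_mem a2 a2)
  replace a3 := H.inU a3 hn
  obtain ⟨v, hv, a4⟩ := H.CU (m := x * ζ * x⁻¹ * ζ⁻¹) fun y => (((a1.mul H.zact).mul (a1.inv (τ := T 29)
    (by decide +kernel))).mul (H.zact.inv (τ := T 14) (by decide +kernel))).comm (by revert y; decide +kernel)
  obtain ⟨r, a5⟩ := cjU (inv_mem H.nu) (c 16)
  obtain ⟨v', a6⟩ := cjU (inv_mem H.nu) v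
  rw [inv_inv] at a5 a6
  have a7 : g⁻¹ * x * g ∈ 𝐌 := H.teC (H.memK (a5 ▸ H.rr _ (by decide))) (fun e => H.ne (x := c 16) (by decide)
    (by simpa using conj_eq_one_iff (a := g⁻¹) |>.1 (by simpa [e] using a5))) (by
      simpa [← a5] using comm_cj (a1.comm (x := c 16) (by decide +kernel)) g⁻¹)
  have a8 := H.DA a4 (Or.inr (by
    convert mul_mem (inv_mem (a6 ▸ H.mem v')) (mul_mem (cjA a7 H.zA) (inv_mem H.zA)) using 1; group))
  rw [inv_mul_eq_one, eq_mul_inv_iff_mul_eq] at a8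
  have a9 := H.zact.cube v
  rw [a8, conj_pow, H.z3, mul_one, mul_one, mul_inv_cancel] at a9
  have a10 : T 29 v * v = 1 := by
    have chk : ∀ v, W v → v * T 13 v * T 13 (T 13 v) = 1 → T 29 v * v = 1 := by decide +kernel
    exact chk v hv (H.inj (a9.symm.trans (map_one ψ).symm))
  have chk' : ∀ w, W w → T 13 w = w → T 29 w = w → w = 1 ∨ T 29 (c 32) * w * c 32 = 1 := by decide +kernel
  rcases chk' w hw (H.inj (by
      rw [← H.zact, ← a3, cj_of_comm (comm_of_cj (by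
        rw [cj_mul, ← a8, ← conj_mul, a1, ← a8, ← mul_assoc, ← map_mul, a10, map_one, one_mul])).symm]))
    (H.inj (by rw [← a1, ← a3]; group)) with e | e
  · exact ⟨x, a2, by rw [a3, e, map_one], a1⟩
  · refine ⟨x * ψ (c 32), mul_mem a2 (h0 (H.U_S0 _)), ?_, fun y => by
      rw [cj_mul, cj_of_comm (comW (by decide) y), a1]⟩
    rw [← map_one ψ, ← e, map_mul, map_mul, ← a1, ← a3]; group

end

theorem not29 {a : G} (ha : a ∈ A) (e : ∀ w, W w → a * ψ w * a⁻¹ = ψ (T 29 w)) : False := by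
  obtain ⟨u, rfl⟩ := H.fa' ha (w := c 16) (by decide) (by decide) (comm_of_cj (by
    rw [e _ (by decide), show T 29 (c 16) = c 16 by decide +kernel]))
  exact absurd (H.inj ((e (c 32) (by decide)).symm.trans (cj_of_comm (comW (by decide) u).symm)))
    (by decide +kernel)

end Cf3

/-- The configuration with a subgroup of the centraliser of the central involution. -/
structure Cf4 (A : Subgroup G) (ψ : C →* G) (h n1 n2 : G) (D : Subgroup G) (g ζ s1 s2 : G) (ρ : Hs →* G) :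
    Prop extends Cf3 A ψ h n1 n2 D g ζ s1 s2 where
  lt : ∀ k < 10, ρ (el (nth 0 lets k)) = sg ψ s1 s2 (L k)
  rc : ∀ x, ρ x ∈ centralizer (D : Set G)

namespace Cf4

open Cfg Cf2 Cf3

variable (H : Cf4 A ψ h n1 n2 D g ζ s1 s2 ρ)
include H

theorem phi_ev {w : List ℕ} (hw : ∀ k ∈ w, k < 10) :
    V (evc lets w) ∧ ρ (el (evc lets w)) = sg ψ s1 s2 (evP w) := by
  induction w with
  | nil => exact ⟨He5.V_o5, by rw [He5.evc_nil, He5.el_o5, map_one]; exact sg_o.symm⟩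
  | cons k w ih =>
    obtain ⟨a, b⟩ := ih fun l hl => hw l (List.mem_cons_of_mem _ hl)
    have hk := hw k List.mem_cons_self
    have v := (He5.let_spec (k := k) (by omega)).1
    exact ⟨v.mu a, by rw [He5.evc_cons, He5.el_mu v a, map_mul, b, H.lt k hk, ← H.sg_mp]; rfl⟩

theorem phi_w (w : List ℕ) {x : ℕ} {y : C} (e : (∀ k ∈ w, k < 10) ∧ evc lets w = x ∧ evP w = (y, false, false)) :
    ρ (el x) = ψ y := by rw [← e.2.1, (H.phi_ev e.1).2, e.2.2, sg_ff]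

theorem rz : ρ (el zc) = ψ (c 80) := H.phi_w [9] (by decide +kernel)

theorem rinj : Function.Injective ρ := rho_inj (H.rz ▸ H.ne (by decide))

theorem comz (x : Hs) : Commute (ρ x) (ψ (c 80)) := by
  obtain ⟨y, hy, rfl⟩ := He5.el_surj x
  exact H.rz ▸ (cod_el.comm hy).map ρ

theorem S0_eq : H.S0 = cod_el.T.map ρ := by
  refine le_antisymm ?_ ?_
  · have key : ∀ w, (∀ k ∈ w, k < 10) ∧ isT (evc lets w) = true → sg ψ s1 s2 (evP w) ∈ cod_el.T.map ρ :=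
      fun w e => ⟨_, ⟨_, (H.phi_ev e.1).1, e.2, rfl⟩, (H.phi_ev e.1).2⟩
    have chk : ∀ k < 8, ∃ w ∈ [[8, 7, 6], [9, 1, 6, 2, 1], [8, 7, 4], [9, 0, 5, 1, 0], [9, 8, 7], [8, 7, 5],
      [8, 7], [9, 8, 5]], ((∀ k ∈ w, k < 10) ∧ isT (evc lets w) = true) ∧ evP w = (c (2 ^ k), false, false) := by
      decide +kernel
    have a1 := key [8, 7, 6, 4, 0] (by decide +kernel)
    have a2 := key [8, 2, 4, 3, 2] (by decide +kernel)
    rw [show evP _ = (1, true, false) by decide +kernel] at a1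
    rw [show evP _ = (1, false, true) by decide +kernel] at a2
    rintro _ ⟨⟨x, e, f⟩, rfl⟩
    refine mul_mem ?_ (mul_mem (by cases e; exacts [one_mem _, by simpa [sg] using a1])
      (by cases f; exacts [one_mem _, by simpa [sg] using a2]))
    change ψ x ∈ _
    induction x using induct with
    | h1 => simp
    | h x hx ih =>
      obtain ⟨w, -, e1, e2⟩ := chk _ ((lo_chk x).resolve_left hx).1
      have := key w e1
      rw [e2, sg_ff] at this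
      simpa [rs] using mul_mem this ih
  · rintro _ ⟨_, ⟨x, hx, ht, rfl⟩, rfl⟩
    have := He5.allT_spec He5.nfT_chk hx ht
    simp only [and'_eq_true, beq_iff, allL_iff, blt_iff] at this
    exact ⟨_, (this.1 ▸ (H.phi_ev this.2).2).symm⟩

theorem cls {u : G} (hu : u ∈ H.S0) (h2 : u * u = 1) (h1 : u ≠ 1) :
    ∃ y, ∃ r ∈ [80, 240, 176, 64, 96, 48, 36, 33], ρ y * u * (ρ y)⁻¹ = ψ (c r) := by
  obtain ⟨_, ⟨x, hx, ht, rfl⟩, rfl⟩ := H.S0_eq ▸ hu
  obtain ⟨y, -, e⟩ := cod_el.cls hx ht (He5.el_inj (hx.mu hx) He5.V_o5 (H.rinj (by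
    rw [He5.el_mu hx hx, map_mul, h2, He5.el_o5, map_one]))) fun e => h1 (by rw [e, He5.el_o5, map_one])
  have chk : ∀ r < 8, ∃ w ∈ [[9], [7], [8], [7, 8], [5], [5, 9], [4, 5], [5, 6]],
    ∃ i ∈ [80, 240, 176, 64, 96, 48, 36, 33], (∀ k ∈ w, k < 10) ∧ evc lets w = nth 0 He5.reps r ∧
      evP w = (c i, false, false) := by decide +kernel
  obtain ⟨w, -, i, hi, e'⟩ := chk _ (He5.cid_lt x)
  exact ⟨el y, i, hi, by rw [← H.phi_w w e', ← e]; simp⟩

theorem cls2 {u : G} (hu : u ∈ H.S0) (h2 : u * u = 1) (h1 : u ≠ 1) :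
    ∃ k ∈ 𝐂, k * u * k⁻¹ = ψ (c 64) ∨ k * u * k⁻¹ = ψ (c 80) := by
  obtain ⟨y, r, hr, e⟩ := H.cls hu h2 h1
  obtain ⟨k, hk, e'⟩ : ∃ k ∈ 𝐂, k * ψ (c r) * k⁻¹ = ψ (c 64) ∨ k * ψ (c r) * k⁻¹ = ψ (c 80) := by
    by_cases a : r = 36
    · simpa [a, show θ (c 33) = c 36 by decide +kernel, show θ (c 64) = c 64 by decide +kernel,
        show θ (c 80) = c 80 by decide +kernel] using H.toCf3.dual.clsV (x := c 33) (by decide) (by decide)
    by_cases b : r = 64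
    · exact ⟨1, one_mem _, by simp [b]⟩
    · have chk : ∀ r ∈ [80, 240, 176, 64, 96, 48, 36, 33], r ≠ 36 → r ≠ 64 → V1 (c r) ∧ ¬ R (c r) := by decide
      exact H.clsV (chk r hr a b).1 (chk r hr a b).2
  exact ⟨k * ρ y, mul_mem hk (H.rc y), by rwa [cj_mul, e]⟩

variable [Finite G]

theorem clsA {u : G} (hu : u ∈ H.S0) (ha : IsA ψ u) :
    ∃ y, ρ y * u * (ρ y)⁻¹ = ψ (c 64) ∨ ρ y * u * (ρ y)⁻¹ = ψ (c 48) := by
  obtain ⟨k, r, hr, r1, rfl⟩ := id ha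
  obtain ⟨y, i, hi, e⟩ := H.cls hu (by rw [conj_mul, sqW (R_W hr)]; simp) (by simpa using H.ne r1)
  have a := e ▸ ha.cj (ρ y)
  refine ⟨y, ?_⟩
  by_cases b : i = 36
  · rw [b, ← show θ (c 33) = c 36 by decide +kernel] at a
    exact absurd ((H.toCf2.dual.ovA (by decide)).1 (isA_dual.2 a)) (by decide)
  have chk : ∀ r ∈ [80, 240, 176, 64, 96, 48, 36, 33], r ≠ 36 → V1 (c r) ∧ (Ov (c r) → r = 64 ∨ r = 48) := by
    decide
  obtain rfl | rfl := (chk i hi b).2 ((H.ovA (chk i hi b).1).1 a)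
  exacts [Or.inl e, Or.inr e]

theorem zA' {k : G} (hu : k * ψ (c 64) * k⁻¹ ∈ H.S0) : k⁻¹ * ψ (c 80) * k ∈ A := by
  have key : ∀ {a : G}, Commute a (ψ (c 80)) → a * (k * ψ (c 64) * k⁻¹) * a⁻¹ ∈ 𝐊 → k⁻¹ * ψ (c 80) * k ∈ A :=
    fun {a} h1 h2 => by
      convert cjA' (H.teR (r := c 64) (by decide) (by decide) (cj_mul a k _ ▸ h2)) (H.mem (c 80)) using 1
      conv_lhs => rw [← cj_of_comm h1.inv_left]
      group
  obtain ⟨y, e | e⟩ := H.clsA hu ((isA_R (by decide) (by decide)).cj k)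
  · exact key (H.comz y) (by rw [e]; exact H.cen (c 64) (by decide))
  · exact key ((H.w1.act.comm (by decide +kernel)).mul_left (H.comz y)) (by
      rw [cj_mul, e, H.w1.act]; exact H.cen _ (by decide +kernel))

theorem syl (hG : ∀ K : Subgroup G, K.index ≠ 2) : ¬ 2 ∣ H.S0.index := by
  have := Fact.mk Nat.prime_two
  obtain ⟨S, h0⟩ := H.S0_p.exists_le_sylow
  have hS := S.2
  suffices (S : Subgroup G) ≤ H.S0 from le_antisymm h0 this ▸ S.not_dvd_index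
  intro s hs
  by_contra h1
  obtain ⟨x, a1, a2, a3⟩ := H.exists_x hS h0 hs h1
  have a4 : x ∉ A := fun e => H.not29 e fun w _ => a3 w
  have a5 : x ∉ H.S0 := by
    rintro ⟨⟨u, e, f⟩, rfl⟩
    have chk : ∀ u : C, ∀ e f : Bool, u * TE (u, e, f) (c 1) * u⁻¹ ≠ T 29 (c 1) := by decide +kernel
    exact chk u e f (H.inj ((H.sg_act _ _).symm.trans (a3 _)))
  have a6 : x ≠ 1 := fun e => a5 (e ▸ one_mem _)
  obtain ⟨k, hk⟩ := Transfer.exists_conj_mem_of_no_index_two hG (P := S) (Q := H.S0)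
    (Nat.not_even_iff_odd.1 (mt even_iff_two_dvd.1 S.not_dvd_index))
    (index_eq_two_iff_exists_notMem_and.2 ⟨⟨x, a1⟩, a5, fun b => or_iff_not_imp_right.2 fun hb => by
      obtain ⟨u, j, hj, a⟩ := H.swap hS h0 b.2 hb
      have chk : ∀ j ∈ [8, 29, 44, 65], ∃ e f : Bool, ∀ y, T j (T 29 y) = TE (1, e, f) y := by decide +kernel
      obtain ⟨e, f, c1⟩ := chk j hj
      exact H.inS0 hS h0 (mul_mem b.2 a1) (p := (u, e, f)) (mul_assoc _ _ x ▸ (a.mul a3).congr c1)⟩)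
    (orderOf_eq_prime ((pow_two x).trans a2) a6)
  obtain ⟨k', -, e | e⟩ := H.cls2 hk (by rw [conj_mul, a2]; simp) (by simpa using a6)
  · exact a4 (H.CA (IsA.cj' (IsA.cj' (e ▸ isA_R (by decide) (by decide))))
      fun y hy => a3.comm (by revert y; decide +kernel))
  rw [← cj_mul] at e
  generalize k' * k = k at e
  have b1 : (S : Subgroup G) ≤ centralizer {ψ (c 80)} := fun s hs => mem_centralizer_singleton_iff.2 (by
    obtain ⟨u, j, hj, a⟩ := H.D8 hS h0 hs (H.le_N hS h0 hs)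
    have chk : ∀ j ∈ [0, 36, 66, 30, 8, 29, 44, 65], j < 72 ∧ T j (c 80) = c 80 := by decide +kernel
    exact (comm_of_cj (by rw [a.onW (chk j hj).1 (by decide), (chk j hj).2])).eq)
  have sq : ∀ k : G, k * ψ (c 64) * k⁻¹ * (k * ψ (c 64) * k⁻¹) = 1 := fun k => by
    rw [conj_mul, sqW (by decide)]; simp
  obtain ⟨m, hm, b2⟩ := He5.conj_into (H := centralizer {ψ (c 80)}) hS
    (fun e => S.not_dvd_index (e.trans (relIndex_dvd_index_of_le b1))) (zp_two (sq k)) (zpowers_le.2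
      (mem_centralizer_singleton_iff.2 (e ▸ comm_cj (a3.comm (by decide +kernel)).symm k).eq))
  have b3 := b2 _ (mem_zpowers _)
  rw [← cj_mul] at b3
  by_cases b4 : m * k * ψ (c 64) * (m * k)⁻¹ ∈ H.S0
  · refine a4 ?_
    convert H.zA' b4 using 1
    rw [← cj_of_comm (mem_centralizer_singleton_iff.1 hm), ← e]; group
  have b5 := (isA_R (ψ := ψ) (r := c 64) (by decide) (by decide)).cj (m * k)
  have b6 := sq (m * k)
  generalize m * k * ψ (c 64) * (m * k)⁻¹ = t at b3 b4 b5 b6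
  obtain ⟨u, j, hj, a⟩ := H.swap hS h0 b3 b4
  have chk : ∀ j ∈ [8, 29, 44, 65], j < 72 ∧ (T j (T j (c 32)) = c 32 → j = 29 ∨ j = 8) := by decide +kernel
  have b7 := fun w => a.onW (w := w) (chk j hj).1
  have key : ∀ {t}, IsA ψ t → (∀ w, W w → t * ψ w * t⁻¹ = ψ (T 29 w)) → False := fun {t} h1 h2 =>
    H.not29 (H.CA h1 fun y hy => comm_of_cj (by
      rw [h2 y (R_W hy), (by decide +kernel : ∀ y, R y → T 29 y = y) y hy])) h2
  obtain rfl | rfl := (chk j hj).2 (H.inj (by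
    rw [← b7 _ (T_W j (chk j hj).1 _ (by decide)), ← b7 _ (by decide), ← cj_mul, b6]; simp))
  · exact key b5 b7
  · refine key (b5.cj s1) fun w hw => ?_
    rw [cj_mul, cj_mul, H.w1.act.inv (τ := T 36) (by decide +kernel), b7 _ (T_W 36 (by decide) w hw), H.w1.act,
      (by decide +kernel : ∀ w, W w → T 36 (T 8 (T 36 w)) = T 29 w) w hw]

end Cf4

end Cfsg.Agent.AS
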